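import Cfsg.Agent.Lib.CommGraph.PlaneModel

/-!
# Cyclic configurations of four points among thirteen with uniform differences
-/

set_option autoImplicit false

namespace CfsgLib.GLTwoThreeRecog

open CfsgLib.CommGraph

/-- The number of representations of a difference. -/
def cnt (D : Finset (ZMod 13)) (δ : ZMod 13) : ℕ := (D.filter fun i => i + δ ∈ D).card

/-- The standard difference set. -/
def base : Finset (ZMod 13) := {0, 1, 3, 9}

theorem diff_set : ∀ D ∈ (Finset.univ : Finset (ZMod 13)).powersetCard 4, (0 : ZMod 13) ∈ D →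
    (∀ δ ∈ D, δ ≠ 0 → ∀ δ' : ZMod 13, δ' ≠ 0 → cnt D δ' = 0 ∨ cnt D δ' = cnt D δ) →
    ∃ k t : ZMod 13, k ≠ 0 ∧ ∀ i, (k * i + t ∈ D ↔ i ∈ base) := by decide +kernel

/-- The point of a residue. -/
def fP (i : ZMod 13) : Fin 13 := [0, 1, 4, 2, 7, 8, 11, 9, 5, 3, 10, 12, 6].getD i.val 0

/-- The line of a residue. -/
def fL (i : ZMod 13) : Fin 13 := [4, 0, 3, 11, 10, 6, 2, 9, 12, 8, 7, 5, 1].getD i.val 0

theorem fP_bij : Function.Bijective fP := by decide +kernel

theorem fL_bij : Function.Bijective fL := by decide +kernel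

theorem inc_iff_base : ∀ i j, inc (fP i) (fL j) = true ↔ i - j ∈ base := by decide +kernel

end CfsgLib.GLTwoThreeRecog
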