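import Cfsg.Agent.Lib.GLTwoThreeCent.Table

/-!
# Finite facts about `GL(2,3)` used to recognise `L3(3)`
-/

set_option autoImplicit false

namespace CfsgLib.GLTwoThreeRecog

open CfsgLib.GLTwoThreeCent

/-- The determinant of a position. -/
def dI (i : Fin 48) : ℤˣ :=
  if (quad i).1 * (quad i).2.2.2 - (quad i).2.1 * (quad i).2.2.1 = 1 then 1 else -1

/-- A transvection. -/
def c0 : Fin 48 := pos (1, 1, 0, 1)

/-- A reflection inverting the transvection. -/
def s0 : Fin 48 := pos (1, 0, 0, 2)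

theorem dI_mul : ∀ i j, dI (mulI i j) = dI i * dI j := by decide +kernel

theorem det_invol : ∀ i, invol i → dI i = 1 → i = negI := by decide +kernel

theorem s0_facts : invol s0 ∧ s0 ≠ negI ∧ dI s0 ≠ 1 ∧ mulI (mulI s0 c0) s0 = mulI c0 c0 := by
  decide +kernel

theorem noncentral_cent : ∀ i, invol i → i ≠ negI →
    (Finset.univ.filter fun k => mulI k i = mulI i k).card = 4 := by decide +kernel

theorem no_normal_three : ∀ i, mulI i (mulI i i) = 0 → i ≠ 0 →
    ∃ j, mulI j i ≠ mulI i j ∧ mulI j i ≠ mulI (mulI i i) j := by decide +kernel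

theorem three_invol : ∀ i, ∃ j, mulI j j = 0 ∧ ∃ k, mulI k k = 0 ∧ ∃ l, mulI l l = 0 ∧
    i = mulI j (mulI k l) := by decide +kernel

theorem three_conj : ∀ i, mulI i (mulI i i) = 0 → i ≠ 0 → ∃ k, mulI k i = mulI c0 k := by
  decide +kernel

theorem c0_facts : mulI c0 (mulI c0 c0) = 0 ∧ c0 ≠ 0 ∧ mulI s0 c0 ≠ mulI c0 s0 ∧
    (Finset.univ.filter fun k => mulI k c0 = mulI c0 k).card = 6 := by decide +kernel

theorem invol_cent_c0 : ∀ i, invol i → mulI i c0 = mulI c0 i → i = negI := by decide +kernel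

theorem cent_s0 : ∀ k, mulI k s0 = mulI s0 k → k = 0 ∨ k = negI ∨ k = s0 ∨ k = mulI negI s0 := by
  decide +kernel

theorem norm_three : ∀ i, mulI i (mulI i i) = 0 → i ≠ 0 →
    (Finset.univ.filter fun j => mulI j i = mulI i j ∨ mulI j i = mulI (mulI i i) j).card ≤ 12 := by
  decide +kernel

end CfsgLib.GLTwoThreeRecog
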