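import Cfsg.Agent.Lib.GLTwoThreeRecog.LocalSylow

/-!
# The two normalizers of index thirteen
-/

set_option autoImplicit false
set_option linter.unusedSectionVars false
set_option linter.style.haveILetI false

namespace CfsgLib.GLTwoThreeRecog

open Cfsg CfsgLib.GLTwoThreeCent

variable {G : Type*} [Group G] {t : G} {K : Coord t} {P : Subgroup G}

/-- An involution inverting the element of order three and commuting with the central one. -/
structure Flip (K : Coord t) (u : G) : Prop where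
  sq : u * u = 1
  ord : orderOf u = 2
  comm : u * t = t * u
  conj : u * elC K * u = (elC K)⁻¹

theorem comm_zpowers_c (A : Axis K P) {x k : G} (hx : x ∈ P) (hk : k ∈ Subgroup.zpowers (elC K)) :
    x * k = k * x := by
  obtain ⟨n, rfl⟩ := Subgroup.mem_zpowers_iff.mp hk
  exact ((show Commute x (elC K) from mem_cent.mp (A.le hx)).zpow_right n).eq

/-- The subgroup generated by the centre and the fixed points of a flip. -/
def ew (A : Axis K P) (u : G) : Subgroup G where
  carrier := {a | ∃ k ∈ Subgroup.zpowers (elC K), ∃ d ∈ P ⊓ cent u, a = k * d}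
  one_mem' := ⟨1, one_mem _, 1, one_mem _, (mul_one 1).symm⟩
  mul_mem' := by
    rintro _ _ ⟨k, hk, d, hd, rfl⟩ ⟨k', hk', d', hd', rfl⟩
    refine ⟨k * k', mul_mem hk hk', d * d', mul_mem hd hd', ?_⟩
    calc k * d * (k' * d') = k * (d * k') * d' := by simp only [mul_assoc]
      _ = k * (k' * d) * d' := by rw [comm_zpowers_c A hd.1 hk']
      _ = k * k' * (d * d') := by simp only [mul_assoc]
  inv_mem' := by
    rintro _ ⟨k, hk, d, hd, rfl⟩
    exact ⟨k⁻¹, inv_mem hk, d⁻¹, inv_mem hd, by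
      rw [mul_inv_rev, comm_zpowers_c A (inv_mem hd.1) (inv_mem hk)]⟩

variable (S : Setup K) [Finite G] (A : Axis K P)
include S A

local notation "c" => elC K
local notation "s" => elS K

theorem Setup.flip_s : Flip K s := ⟨S.s_sq, S.orderOf_s, S.t_comm_s.symm, S.s_conj_c⟩

theorem Setup.flip_mul {u : G} (F : Flip K u) : Flip K (t * u) := by
  have hsq : t * u * (t * u) = 1 := by
    calc t * u * (t * u) = t * (u * t) * u := by simp only [mul_assoc]
      _ = t * t * (u * u) := by rw [F.comm]; simp only [mul_assoc]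
      _ = 1 := by rw [S.t_sq, F.sq, one_mul]
  have hne : t * u ≠ 1 := fun h => by
    have hu : u = t := (inv_eq_of_mul_eq_one_right h).symm.trans (inv_eq_of_mul_eq_one_right S.t_sq)
    have hc' := F.conj
    rw [hu, S.t_comm_c, mul_assoc, S.t_sq, mul_one] at hc'
    exact S.c_ne_inv hc'
  refine ⟨hsq, orderOf_eq_prime (by rw [pow_two, hsq]) hne, by rw [mul_assoc, F.comm], ?_⟩
  calc t * u * c * (t * u) = t * u * c * (u * t) := by rw [F.comm]
    _ = t * (u * c * u) * t := by simp only [mul_assoc]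
    _ = c⁻¹ * (t * t) := by
        rw [F.conj, ((show Commute t c from S.t_comm_c).inv_right).eq, mul_assoc]
    _ = c⁻¹ := by rw [S.t_sq, mul_one]

theorem Setup.flip_mem_nc {u : G} (F : Flip K u) : u ∈ nc K :=
  Or.inr (by rw [inv_eq_of_mul_eq_one_right F.sq, F.conj])

theorem Setup.flip_conj_zpowers {u k : G} (F : Flip K u) (hk : k ∈ Subgroup.zpowers c) :
    u * k * u = k⁻¹ := by
  rcases mem_zpowers_three S.orderOf_c hk with rfl | rfl | rfl
  · rw [mul_one, F.sq, inv_one]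
  · exact F.conj
  · rw [← invol_conj_inv F.sq, F.conj]

theorem Setup.ew_le (u : G) : ew A u ≤ P := by
  rintro _ ⟨k, hk, d, hd, rfl⟩
  exact mul_mem (Subgroup.zpowers_le.mpr (S.c_mem_P A) hk) hd.1

theorem Setup.zpowers_le_ew (u : G) : Subgroup.zpowers c ≤ ew A u :=
  fun k hk => ⟨k, hk, 1, one_mem _, (mul_one k).symm⟩

theorem Setup.mem_ew {u a : G} (F : Flip K u) (ha : a ∈ P) (h : u * a * u * a⁻¹ ∈ Subgroup.zpowers c) :
    a ∈ ew A u := by
  set k := u * a * u * a⁻¹ with hk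
  have hk3 : k * k * k = 1 := by
    rcases mem_zpowers_three S.orderOf_c h with h' | h' | h' <;> rw [h']
    · simp
    · rw [← pow_three S.orderOf_c, pow_succ, pow_two]
    · rw [← mul_inv_rev, ← mul_inv_rev, inv_eq_one, ← pow_three S.orderOf_c, pow_succ', pow_two]
  have hua : u * a * u = k * a := by rw [hk, inv_mul_cancel_right]
  refine ⟨k, h, k * k * a, ⟨mul_mem (mul_mem (Subgroup.zpowers_le.mpr (S.c_mem_P A) h)
    (Subgroup.zpowers_le.mpr (S.c_mem_P A) h)) ha, mem_cent.mpr ((invol_fix_iff F.sq _).mp ?_)⟩, ?_⟩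
  · rw [invol_conj_mul F.sq, invol_conj_mul F.sq, S.flip_conj_zpowers A F h, hua,
      inv_eq_of_mul_eq_one_left hk3]
    simp only [← mul_assoc]
    rw [hk3, one_mul]
  · rw [← mul_assoc, ← mul_assoc, hk3, one_mul]

theorem Setup.ew_char {u a : G} (F : Flip K u) (ha : a ∈ ew A u) :
    u * a * u * a⁻¹ ∈ Subgroup.zpowers c := by
  obtain ⟨k, hk, d, hd, rfl⟩ := ha
  rw [invol_conj_mul F.sq, S.flip_conj_zpowers A F hk, (invol_fix_iff F.sq d).mpr (mem_cent.mp hd.2),
    mul_inv_rev, mul_assoc, ← mul_assoc d, mul_inv_cancel, one_mul]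
  exact mul_mem (inv_mem hk) (inv_mem hk)

theorem Setup.card_ew_le {u : G} (F : Flip K u) : Nat.card (ew A u) ≤ 9 := by
  have h := Nat.card_le_card_of_surjective
    (fun q : Subgroup.zpowers c × ↥(P ⊓ cent u) => (⟨q.1 * q.2, q.1, q.1.2, q.2, q.2.2, rfl⟩ : ew A u))
    (fun a => by
      obtain ⟨k, hk, d, hd, e⟩ := a.2
      exact ⟨(⟨k, hk⟩, ⟨d, hd⟩), Subtype.ext e.symm⟩)
  rw [Nat.card_prod, Nat.card_zpowers, S.orderOf_c] at h
  have := S.card_inf_invol A F.ord
  omega

theorem Setup.comm_mem {x y : G} (hx : x ∈ P) (hy : y ∈ P) :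
    x * y * x⁻¹ * y⁻¹ ∈ Subgroup.zpowers c :=
  commutator_mem_zpowers A.card (S.c_mem_P A) S.orderOf_c (fun _ hz => mem_cent.mp (A.le hz)) hx hy

theorem Setup.t_inverts {z : G} (hz : z ∈ P) : z * (t * z * t) ∈ Subgroup.zpowers c := by
  have hz' := S.conj_mem A S.t_sq (S.t_mem_nc A) hz
  set w := z * (t * z * t) with hw
  set k := (t * z * t)⁻¹ * z⁻¹ * (t * z * t) * z with hk
  have hkc : k ∈ Subgroup.zpowers c := by
    have h := S.comm_mem A (inv_mem hz') (inv_mem hz)
    rwa [inv_inv, inv_inv] at h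
  have h1 : t * w * t = w * k := by
    rw [hw, invol_conj_mul S.t_sq, invol_conj_conj S.t_sq, hk]
    group
  have hkt : t * k * t = k := by
    obtain ⟨n, hn⟩ := Subgroup.mem_zpowers_iff.mp hkc
    rw [← hn, ((show Commute t c from S.t_comm_c).zpow_right n).eq, mul_assoc, S.t_sq, mul_one]
  have h2 : w = w * k * k := by
    calc w = t * (t * w * t) * t := (invol_conj_conj S.t_sq w).symm
      _ = _ := by rw [h1, invol_conj_mul S.t_sq, h1, hkt]
  have hkk : k * k = 1 := by rw [mul_assoc] at h2; exact (mul_eq_left.mp h2.symm)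
  have hk1 : k = 1 := by
    rcases mem_zpowers_three S.orderOf_c hkc with h | h | h
    · exact h
    all_goals rw [h] at hkk
    · exact absurd (eq_inv_of_mul_eq_one_left hkk) S.c_ne_inv
    · exact absurd ((eq_inv_of_mul_eq_one_left hkk).trans (inv_inv _)).symm S.c_ne_inv
  rw [hk1, mul_one] at h1
  exact S.mem_zpowers_of_comm_t A (mul_mem hz hz') ((invol_fix_iff S.t_sq w).mp h1)

theorem Setup.exists_prod {u : G} (F : Flip K u) {p : G} (hp : p ∈ P) :
    ∃ a ∈ ew A u, ∃ b ∈ ew A (t * u), p = a * b := by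
  have F' := S.flip_mul A F
  set y := p ^ 14 with hy
  have hyP : y ∈ P := pow_mem hp 14
  have hy2 : y * y = p := by
    rw [hy, ← pow_add, show 14 + 14 = 27 + 1 from rfl, pow_succ, S.pow_27 A.card hp, one_mul]
  have hmem : ∀ v, Flip K v → y * (v * y * v) ∈ ew A v := fun v Fv => by
    have hv := S.conj_mem A Fv.sq (S.flip_mem_nc A Fv) hyP
    refine S.mem_ew A Fv (mul_mem hyP hv) ?_
    rw [invol_conj_mul Fv.sq, invol_conj_conj Fv.sq, mul_inv_rev, ← mul_assoc]
    exact S.comm_mem A hv hyP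
  set z := u * y * u with hz
  have hzP : z ∈ P := S.conj_mem A F.sq (S.flip_mem_nc A F) hyP
  have hv : t * u * y * (t * u) = t * z * t := by
    calc t * u * y * (t * u) = t * u * y * (u * t) := by rw [F.comm]
      _ = _ := by simp only [hz, mul_assoc]
  set k := y⁻¹ * z * y * z⁻¹ * (z * (t * z * t)) with hk
  have hkc : k ∈ Subgroup.zpowers c := mul_mem (by
    have h := S.comm_mem A (inv_mem hyP) hzP
    rwa [inv_inv] at h) (S.t_inverts A hzP)
  refine ⟨y * z, hmem u F, y * (t * u * y * (t * u)) * k⁻¹,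
    mul_mem (hmem _ F') (inv_mem (S.zpowers_le_ew A _ hkc)), ?_⟩
  rw [hv, ← hy2, hk]
  clear_value z k y
  group

theorem Setup.card_ew {u : G} (F : Flip K u) : Nat.card (ew A u) = 9 := by
  have h9 := S.card_ew_le A F
  have hd : Nat.card (ew A u) ∣ 27 := A.card ▸ Subgroup.card_dvd_of_le (S.ew_le A u)
  have h3 : 3 ≤ Nat.card (ew A u) := by
    have := Nat.le_of_dvd Nat.card_pos (Subgroup.card_dvd_of_le (S.zpowers_le_ew A u))
    rwa [Nat.card_zpowers, S.orderOf_c] at this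
  have key : ∀ n < 10, n ∣ 27 → 3 ≤ n → n = 3 ∨ n = 9 := by decide +kernel
  rcases key _ (by omega) hd h3 with h | h
  · exfalso
    have he : Subgroup.zpowers c = ew A u :=
      Subgroup.eq_of_le_of_card_ge (S.zpowers_le_ew A u) (by rw [h, Nat.card_zpowers, S.orderOf_c])
    have hle : P ≤ ew A (t * u) := fun p hp => by
      obtain ⟨a, ha, b, hb, rfl⟩ := S.exists_prod A F hp
      exact mul_mem (S.zpowers_le_ew A _ (he ▸ ha)) hb
    have := Nat.le_of_dvd Nat.card_pos (Subgroup.card_dvd_of_le hle)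
    have := S.card_ew_le A (S.flip_mul A F)
    rw [A.card] at *
    omega
  · exact h

theorem Setup.exists_fixed {u : G} (F : Flip K u) :
    ∃ d ∈ ew A u, d * u = u * d ∧ orderOf d = 3 ∧ d ∉ Subgroup.zpowers c ∧
      ∀ a ∈ ew A u, ∃ i j : Fin 3, a = c ^ i.val * d ^ j.val := by
  haveI := Fact.mk Nat.prime_three
  have hne : ew A u ≠ Subgroup.zpowers c := fun h => by
    have := S.card_ew A F
    rw [h, Nat.card_zpowers, S.orderOf_c] at this
    norm_num at this
  obtain ⟨a, ha, hac⟩ : ∃ a ∈ ew A u, a ∉ Subgroup.zpowers c := by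
    by_contra h; push Not at h
    exact hne (le_antisymm h (S.zpowers_le_ew A u))
  obtain ⟨k, hk, d, hd, rfl⟩ := ha
  have hdc : d ∉ Subgroup.zpowers c := fun h => hac (mul_mem hk h)
  have hdo : orderOf d = 3 := by
    have h1 := Subgroup.orderOf_dvd_natCard _ hd
    have h2 := S.card_inf_invol A F.ord
    have h3 : orderOf d ≠ 1 := fun h => hdc (orderOf_eq_one_iff.mp h ▸ one_mem _)
    have h4 : orderOf d ∣ 27 := A.card ▸ Subgroup.orderOf_dvd_natCard _ hd.1
    have h5 := Nat.le_of_dvd Nat.card_pos h1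
    have key : ∀ n < 4, n ∣ 27 → n ≠ 1 → n = 3 := by decide +kernel
    exact key _ (by omega) h4 h3
  have hde : d ∈ ew A u := ⟨1, one_mem _, d, hd, (one_mul d).symm⟩
  refine ⟨d, hde, mem_cent.mp hd.2, hdo, hdc, fun a ha => ?_⟩
  let f : Fin 3 × Fin 3 → ew A u := fun q => ⟨c ^ q.1.val * d ^ q.2.val,
    mul_mem (pow_mem (S.zpowers_le_ew A u (Subgroup.mem_zpowers c)) _) (pow_mem hde _)⟩
  have hf : Function.Bijective f := (Nat.bijective_iff_injective_and_card f).mpr
    ⟨fun q q' he => prod_injective S.orderOf_c hdo hdc (congrArg Subtype.val he), by simp [S.card_ew A F]⟩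
  obtain ⟨⟨i, j⟩, hq⟩ := hf.2 ⟨a, ha⟩
  exact ⟨i, j, (congrArg Subtype.val hq).symm⟩

theorem Setup.conj_ew_of_mem {u p a : G} (hp : p ∈ P) (ha : a ∈ ew A u) : p * a * p⁻¹ ∈ ew A u := by
  have h := S.zpowers_le_ew A u (S.comm_mem A hp (S.ew_le A u ha))
  have := mul_mem h ha
  rwa [inv_mul_cancel_right] at this

/-- The normalizer. -/
theorem Setup.nc_le_norm {u : G} (F : Flip K u) :
    nc K ≤ Subgroup.normalizer ((ew A u : Subgroup G) : Set G) := by
  have ht : ∀ a ∈ ew A u, t * a * t ∈ ew A u := fun a ha => by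
    refine S.mem_ew A F (S.conj_mem A S.t_sq (S.t_mem_nc A) (S.ew_le A u ha)) ?_
    have e : u * (t * a * t) * u = t * (u * a * u) * t := by
      calc u * (t * a * t) * u = u * t * a * (t * u) := by simp only [mul_assoc]
        _ = t * u * a * (u * t) := by rw [F.comm]
        _ = _ := by simp only [mul_assoc]
    rw [e, invol_conj_inv S.t_sq, ← invol_conj_mul S.t_sq]
    obtain ⟨n, hn⟩ := Subgroup.mem_zpowers_iff.mp (S.ew_char A F ha)
    exact ⟨n, by
      show c ^ n = _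
      rw [← hn, ((show Commute t c from S.t_comm_c).zpow_right n).eq, mul_assoc, S.t_sq, mul_one]⟩
  have hu : ∀ a ∈ ew A u, u * a * u ∈ ew A u := fun a ha => by
    have := mul_mem (S.zpowers_le_ew A u (S.ew_char A F ha)) ha
    rwa [inv_mul_cancel_right] at this
  have hC : ∀ g ∈ cent c, ∀ a ∈ ew A u, g * a * g⁻¹ ∈ ew A u := by
    intro g hg a ha
    set O := P.subgroupOf (cent c) with hO
    have hi : O.index = 2 := by
      have h1 := O.card_mul_index
      rw [Nat.card_congr (Subgroup.subgroupOfEquivOfLe A.le).toEquiv, A.card, S.card_cent_c] at h1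
      omega
    have htO : (⟨t, S.t_mem⟩ : cent c) ∉ O := fun h => by
      have := A.card ▸ Subgroup.orderOf_dvd_natCard _ (Subgroup.mem_subgroupOf.mp h)
      rw [K.orderOf_neg] at this
      norm_num at this
    by_cases hgO : (⟨g, hg⟩ : cent c) ∈ O
    · exact S.conj_ew_of_mem A (Subgroup.mem_subgroupOf.mp hgO) ha
    · have hgt : g * t ∈ P := Subgroup.mem_subgroupOf.mp
        ((Subgroup.mul_mem_iff_of_index_two hi).mpr (iff_of_false hgO htO) :
          (⟨g, hg⟩ * ⟨t, S.t_mem⟩ : cent c) ∈ O)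
      have := S.conj_ew_of_mem A hgt (ht a ha)
      have e : g * t * (t * a * t) * (g * t)⁻¹ = g * a * g⁻¹ := by
        calc g * t * (t * a * t) * (g * t)⁻¹ = g * (t * t) * a * g⁻¹ := by group
          _ = _ := by rw [S.t_sq, mul_one]
      rwa [e] at this
  have hall : ∀ g ∈ nc K, ∀ a ∈ ew A u, g * a * g⁻¹ ∈ ew A u := by
    intro g hg a ha
    rcases hg with h | h
    · exact hC g (conj_fix_iff.mp h) a ha
    · have hgu : g * u ∈ cent c := conj_fix_iff.mp (by
        calc g * u * c * (g * u)⁻¹ = g * (u * c * u⁻¹) * g⁻¹ := by group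
          _ = (g * c * g⁻¹)⁻¹ := by rw [inv_eq_of_mul_eq_one_right F.sq, F.conj]; group
          _ = c := by rw [h, inv_inv])
      have := hC _ hgu _ (hu a ha)
      have e : g * u * (u * a * u) * (g * u)⁻¹ = g * a * g⁻¹ := by
        calc g * u * (u * a * u) * (g * u)⁻¹ = g * (u * u) * a * g⁻¹ := by group
          _ = _ := by rw [F.sq, mul_one]
      rwa [e] at this
  exact fun g hg => Subgroup.mem_normalizer_iff.mpr fun a =>
    ⟨hall g hg a, fun h => by simpa [mul_assoc] using hall g⁻¹ (inv_mem hg) _ h⟩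

theorem Setup.noncentral {e : G} (he : e ∈ P) (hec : e ∉ Subgroup.zpowers c) :
    ∃ x ∈ P, x * e ≠ e * x := by
  by_contra h; push Not at h
  exact hec (S.central_mem A he fun y hy => (h y hy).symm)

theorem Setup.transitive {u e : G} (F : Flip K u) (he : e ∈ ew A u) (he1 : e ≠ 1) :
    ∃ g ∈ Subgroup.normalizer ((ew A u : Subgroup G) : Set G), g * c * g⁻¹ = e := by
  set M := Subgroup.normalizer ((ew A u : Subgroup G) : Set G) with hM
  obtain ⟨d, hde, hdu, hdo, hdc, hrep⟩ := S.exists_fixed A F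
  have hdP := S.ew_le A u hde
  have hncM := S.nc_le_norm A F
  obtain ⟨g0, hg0⟩ := isConj_iff.mp (S.isConj_c hdo F.ord hdu)
  have hcd : c * d = d * c := (mem_cent.mp (A.le hdP)).symm
  -- elements of the small group pulled back
  have hback : ∀ a ∈ ew A u, g0⁻¹ * a * g0 ∈ P := fun a ha => by
    refine S.mem_P A (mem_cent.mpr ?_) ?_
    · have had : a * d = d * a := by
        obtain ⟨i, j, rfl⟩ := hrep a ha
        exact (((show Commute c d from hcd).pow_left i.val).mul_left ((Commute.refl d).pow_left j.val)).eq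
      calc g0⁻¹ * a * g0 * c = g0⁻¹ * (a * (g0 * c * g0⁻¹)) * g0 := by group
        _ = g0⁻¹ * (g0 * c * g0⁻¹ * a) * g0 := by rw [hg0, had]
        _ = _ := by group
    · rw [show g0⁻¹ * a * g0 = g0⁻¹ * a * g0⁻¹⁻¹ by rw [inv_inv], conj_pow,
        S.pow_27 A.card (S.ew_le A u ha), mul_one, mul_inv_cancel]
  have hforth : ∀ k ∈ Subgroup.zpowers c, g0 * k * g0⁻¹ ∈ Subgroup.zpowers d := fun k hk => by
    obtain ⟨n, rfl⟩ := Subgroup.mem_zpowers_iff.mp hk
    exact ⟨n, by show d ^ n = _; rw [← hg0, conj_zpow]⟩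
  have hshift : ∀ j : ℕ, ∃ g ∈ M, g * c * g⁻¹ = c * d ^ j := by
    intro j
    have hce : c ∈ ew A u := S.zpowers_le_ew A u (Subgroup.mem_zpowers c)
    have hc' := hback c hce
    have hc'n : g0⁻¹ * c * g0 ∉ Subgroup.zpowers c := fun h => by
      have h1 := hforth _ h
      rw [show g0 * (g0⁻¹ * c * g0) * g0⁻¹ = c by group] at h1
      rcases mem_zpowers_three hdo h1 with h2 | h2 | h2
      · exact S.c_ne_one h2
      · exact hdc (h2 ▸ Subgroup.mem_zpowers c)
      · exact hdc (inv_mem_iff.mp (h2 ▸ Subgroup.mem_zpowers c))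
    obtain ⟨p, hp, hpe⟩ := exists_conj_mul A.card (S.c_mem_P A) S.orderOf_c
      (fun _ hz => mem_cent.mp (A.le hz)) hc' (S.noncentral A hc' hc'n)
      (Subgroup.npow_mem_zpowers c j)
    have hall : ∀ g, (∃ q ∈ P, g = g0 * q * g0⁻¹) → ∀ a ∈ ew A u, g * a * g⁻¹ ∈ ew A u := by
      rintro g ⟨q, hq, rfl⟩ a ha
      have h1 := hforth _ (S.comm_mem A hq (hback a ha))
      have h2 := mul_mem (Subgroup.zpowers_le.mpr hde h1) ha
      have e : g0 * (q * (g0⁻¹ * a * g0) * q⁻¹ * (g0⁻¹ * a * g0)⁻¹) * g0⁻¹ * a =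
          g0 * q * g0⁻¹ * a * (g0 * q * g0⁻¹)⁻¹ := by group
      rwa [e] at h2
    refine ⟨g0 * p * g0⁻¹, Subgroup.mem_normalizer_iff.mpr fun a => ⟨hall _ ⟨p, hp, rfl⟩ a, fun h => ?_⟩, ?_⟩
    · have := hall (g0 * p * g0⁻¹)⁻¹ ⟨p⁻¹, inv_mem hp, by group⟩ _ h
      simpa [mul_assoc] using this
    · calc g0 * p * g0⁻¹ * c * (g0 * p * g0⁻¹)⁻¹ = g0 * (p * (g0⁻¹ * c * g0) * p⁻¹) * g0⁻¹ := by group
        _ = g0 * (g0⁻¹ * c * g0 * c ^ j) * g0⁻¹ := by rw [hpe]
        _ = c * (g0 * c * g0⁻¹) ^ j := by rw [conj_pow]; group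
        _ = c * d ^ j := by rw [hg0]
  obtain ⟨i, j, rfl⟩ := hrep e he
  have hfixd : u * d ^ j.val * u = d ^ j.val :=
    (invol_fix_iff F.sq _).mpr ((show Commute d u from hdu).pow_left _).eq
  have h1 := pow_three S.orderOf_c
  have hi3 := i.isLt
  obtain hi | hi | hi : i.val = 0 ∨ i.val = 1 ∨ i.val = 2 := by omega
  · rw [hi, pow_zero, one_mul] at he1 ⊢
    have hjne : d ^ j.val ∉ Subgroup.zpowers c := fun h => he1 <| by
      rcases mem_zpowers_three hdo (Subgroup.npow_mem_zpowers d j.val) with h' | h' | h'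
      · exact h'
      · exact absurd (h' ▸ h) hdc
      · exact absurd (inv_mem_iff.mp (h' ▸ h)) hdc
    obtain ⟨p, hp, hpe⟩ := exists_conj_mul A.card (S.c_mem_P A) S.orderOf_c
      (fun _ hz => mem_cent.mp (A.le hz)) (pow_mem hdP j.val) (S.noncentral A (pow_mem hdP j.val) hjne)
      (Subgroup.mem_zpowers c)
    obtain ⟨g, hg, hgc⟩ := hshift j.val
    refine ⟨p⁻¹ * g, mul_mem (inv_mem (hncM (S.cent_le_nc (A.le hp)))) hg, ?_⟩
    calc p⁻¹ * g * c * (p⁻¹ * g)⁻¹ = p⁻¹ * (g * c * g⁻¹) * p := by group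
      _ = p⁻¹ * (p * d ^ j.val * p⁻¹) * p := by
          rw [hgc, hpe, ((show Commute c d from hcd).pow_right j.val).eq]
      _ = d ^ j.val := by group
  · rw [hi, pow_one]; exact hshift j.val
  · obtain ⟨g, hg, hgc⟩ := hshift j.val
    refine ⟨u * g, mul_mem (hncM (S.flip_mem_nc A F)) hg, ?_⟩
    calc u * g * c * (u * g)⁻¹ = u * (g * c * g⁻¹) * u⁻¹ := by group
      _ = u * c * u * (u * d ^ j.val * u) := by
          rw [hgc, inv_eq_of_mul_eq_one_right F.sq, invol_conj_mul F.sq]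
      _ = c ^ i.val * d ^ j.val := by
          rw [F.conj, hfixd, hi, eq_comm]
          exact congrArg (· * _) (eq_inv_of_mul_eq_one_left (by rw [← pow_succ]; exact h1))

theorem Setup.card_norm {u : G} (F : Flip K u) :
    Nat.card (Subgroup.normalizer ((ew A u : Subgroup G) : Set G)) = 432 := by
  classical
  rw [card_eq_mul_orbit _ c (S.cent_le_nc.trans (S.nc_le_norm A F))
    (((ew A u : Subgroup G) : Set G) \ {1}) ?_ ?_, S.card_cent_c, Nat.card_coe_set_eq,
    Set.ncard_sdiff_singleton_of_mem (one_mem _)]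
  · rw [← Nat.card_coe_set_eq]
    show (Nat.card (ew A u) - 1) * 54 = 432
    rw [S.card_ew A F]
  · intro g hg
    exact ⟨(Subgroup.mem_normalizer_iff.mp hg c).mp (S.zpowers_le_ew A u (Subgroup.mem_zpowers c)),
      fun h => S.c_ne_one (conj_eq_one_iff.mp h)⟩
  · rintro y ⟨hy, hy1⟩
    exact S.transitive A F hy hy1

theorem Setup.inf_norm_le {u : G} (F : Flip K u) :
    Subgroup.normalizer ((ew A u : Subgroup G) : Set G) ⊓
      Subgroup.normalizer ((ew A (t * u) : Subgroup G) : Set G) ≤ nc K := by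
  rintro g ⟨hg1, hg2⟩
  have hall : ∀ p ∈ P, g⁻¹ * p * g ∈ P := fun p hp => by
    obtain ⟨a, ha, b, hb, rfl⟩ := S.exists_prod A F hp
    have h1 := (Subgroup.mem_normalizer_iff.mp (inv_mem hg1) a).mp ha
    have h2 := (Subgroup.mem_normalizer_iff.mp (inv_mem hg2) b).mp hb
    rw [inv_inv] at h1 h2
    rw [show g⁻¹ * (a * b) * g = g⁻¹ * a * g * (g⁻¹ * b * g) by group]
    exact mul_mem (S.ew_le A _ h1) (S.ew_le A _ h2)
  have hgc : g * c * g⁻¹ ∈ P :=
    S.ew_le A u ((Subgroup.mem_normalizer_iff.mp hg1 c).mp (S.zpowers_le_ew A u (Subgroup.mem_zpowers c)))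
  have hz := S.central_mem A hgc fun y hy => by
    have := mem_cent.mp (A.le (hall y hy))
    calc g * c * g⁻¹ * y = g * (c * (g⁻¹ * y * g)) * g⁻¹ := by group
      _ = g * (g⁻¹ * y * g * c) * g⁻¹ := by rw [this]
      _ = _ := by group
  rcases mem_zpowers_three S.orderOf_c hz with h | h | h
  · exact absurd (conj_eq_one_iff.mp h) S.c_ne_one
  · exact Or.inl h
  · exact Or.inr h

theorem Setup.two_transitive {u m m' : G} (F : Flip K u)
    (hm : m ∈ Subgroup.normalizer ((ew A u : Subgroup G) : Set G))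
    (hm' : m' ∈ Subgroup.normalizer ((ew A u : Subgroup G) : Set G)) (hn : m ∉ nc K) (hn' : m' ∉ nc K) :
    ∃ p ∈ P, m'⁻¹ * p * m ∈ nc K := by
  obtain ⟨d, hde, -, hdo, -, hrep⟩ := S.exists_fixed A F
  have hcd : Commute c d := (mem_cent.mp (A.le (S.ew_le A u hde))).symm
  have hmem : ∀ {n : G}, n ∈ Subgroup.normalizer ((ew A u : Subgroup G) : Set G) → n ∉ nc K →
      n * c * n⁻¹ ∈ ew A u ∧ n * c * n⁻¹ ∉ Subgroup.zpowers c := fun {n} hn hnn =>
    ⟨(Subgroup.mem_normalizer_iff.mp hn c).mp (S.zpowers_le_ew A u (Subgroup.mem_zpowers c)), fun h => by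
      rcases mem_zpowers_three S.orderOf_c h with h' | h' | h'
      · exact S.c_ne_one (conj_eq_one_iff.mp h')
      · exact hnn (Or.inl h')
      · exact hnn (Or.inr h')⟩
  obtain ⟨he, hec⟩ := hmem hm hn
  obtain ⟨he', hec'⟩ := hmem hm' hn'
  set e := m * c * m⁻¹ with hedef
  set e' := m' * c * m'⁻¹ with hedef'
  obtain ⟨z, hz, hzz⟩ : ∃ z ∈ Subgroup.zpowers c, e * z = e' ∨ e * z = e'⁻¹ := by
    obtain ⟨i, j, hij⟩ := hrep e he
    obtain ⟨k, l, hkl⟩ := hrep e' he'
    have hj : j.val ≠ 0 := fun h => hec (by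
      rw [hij, h, pow_zero, mul_one]; exact Subgroup.npow_mem_zpowers c _)
    have hl : l.val ≠ 0 := fun h => hec' (by
      rw [hkl, h, pow_zero, mul_one]; exact Subgroup.npow_mem_zpowers c _)
    by_cases hjl : j.val = l.val
    · refine ⟨(c ^ i.val)⁻¹ * c ^ k.val,
        mul_mem (inv_mem (Subgroup.npow_mem_zpowers c _)) (Subgroup.npow_mem_zpowers c _), Or.inl ?_⟩
      rw [hij, hkl, ← hjl, ((hcd.pow_pow i.val j.val)).eq]
      calc d ^ j.val * c ^ i.val * ((c ^ i.val)⁻¹ * c ^ k.val) = d ^ j.val * c ^ k.val := by group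
        _ = _ := (hcd.pow_pow k.val j.val).eq.symm
    · refine ⟨(c ^ i.val)⁻¹ * (c ^ k.val)⁻¹,
        mul_mem (inv_mem (Subgroup.npow_mem_zpowers c _)) (inv_mem (Subgroup.npow_mem_zpowers c _)),
        Or.inr ?_⟩
      have hd : d ^ j.val = (d ^ l.val)⁻¹ := eq_inv_of_mul_eq_one_left (by
        rw [← pow_add, show j.val + l.val = 3 by have := j.isLt; have := l.isLt; omega, pow_three hdo])
      rw [hij, hkl, mul_inv_rev, ← hd, ((hcd.pow_pow i.val j.val)).eq]
      group
  obtain ⟨p, hp, hpe⟩ := exists_conj_mul A.card (S.c_mem_P A) S.orderOf_c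
    (fun _ hz => mem_cent.mp (A.le hz)) (S.ew_le A u he) (S.noncentral A (S.ew_le A u he) hec) hz
  refine ⟨p, hp, ?_⟩
  have e1 : m'⁻¹ * p * m * c * (m'⁻¹ * p * m)⁻¹ = m'⁻¹ * (p * e * p⁻¹) * m' := by rw [hedef]; group
  rcases hzz with h | h <;> rw [hpe, h, hedef'] at e1
  · exact Or.inl (by rw [e1]; group)
  · exact Or.inr (by rw [e1]; group)

end CfsgLib.GLTwoThreeRecog
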