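import Cfsg.Agent.Lib.GLTwoThreeRecog.LocalThree

/-!
# The Sylow three-subgroup centralizing the element of order three is nonabelian
-/

set_option autoImplicit false
set_option linter.unusedSectionVars false
set_option linter.style.haveILetI false

namespace CfsgLib.GLTwoThreeRecog

open Cfsg CfsgLib.GLTwoThreeCent

variable {G : Type*} [Group G] {t : G}

theorem invol_conj_mul {u : G} (hu : u * u = 1) (x y : G) :
    u * (x * y) * u = u * x * u * (u * y * u) :=
  calc u * (x * y) * u = u * x * (u * u) * y * u := by rw [hu]; group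
    _ = _ := by simp only [mul_assoc]

theorem invol_conj_conj {u : G} (hu : u * u = 1) (x : G) : u * (u * x * u) * u = x :=
  calc u * (u * x * u) * u = u * u * x * (u * u) := by simp only [mul_assoc]
    _ = x := by rw [hu, one_mul, mul_one]

theorem invol_fix_iff {u : G} (hu : u * u = 1) (x : G) : u * x * u = x ↔ x * u = u * x := by
  constructor <;> intro h
  · calc x * u = u * x * u * u := by rw [h]
      _ = u * x := by rw [mul_assoc, hu, mul_one]
  · rw [← h, mul_assoc, hu, mul_one]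

theorem invol_conj_inv {u : G} (hu : u * u = 1) (x : G) : (u * x * u)⁻¹ = u * x⁻¹ * u := by
  rw [mul_inv_rev, mul_inv_rev, inv_eq_of_mul_eq_one_right hu, mul_assoc]

/-- The data of the Sylow three-subgroup. -/
structure Axis (K : Coord t) (P : Subgroup G) : Prop where
  le : P ≤ cent (elC K)
  card : Nat.card P = 27

/-- The normalizer of the group generated by the element of order three. -/
def nc (K : Coord t) : Subgroup G where
  carrier := {g | g * elC K * g⁻¹ = elC K ∨ g * elC K * g⁻¹ = (elC K)⁻¹}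
  one_mem' := Or.inl (by simp)
  mul_mem' := by
    intro g h hg hh
    have e : g * h * elC K * (g * h)⁻¹ = g * (h * elC K * h⁻¹) * g⁻¹ := by group
    rcases hh with hh | hh <;> rcases hg with hg | hg
    · exact Or.inl (by rw [e, hh, hg])
    · exact Or.inr (by rw [e, hh, hg])
    · exact Or.inr (by rw [e, hh]; simpa [mul_assoc] using congrArg (·⁻¹) hg)
    · exact Or.inl (by rw [e, hh]; simpa [mul_assoc] using congrArg (·⁻¹) hg)
  inv_mem' := by
    intro g hg
    rcases hg with hg | hg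
    · refine Or.inl ?_
      calc g⁻¹ * elC K * (g⁻¹)⁻¹ = g⁻¹ * (g * elC K * g⁻¹) * g := by rw [hg]; group
        _ = elC K := by group
    · refine Or.inr ?_
      calc g⁻¹ * elC K * (g⁻¹)⁻¹ = g⁻¹ * ((g * elC K * g⁻¹)⁻¹) * g := by rw [hg]; group
        _ = (elC K)⁻¹ := by group

theorem mem_nc {K : Coord t} {g : G} :
    g ∈ nc K ↔ g * elC K * g⁻¹ = elC K ∨ g * elC K * g⁻¹ = (elC K)⁻¹ := Iff.rfl

variable {K : Coord t} (S : Setup K) [Finite G]
include S

local notation "c" => elC K
local notation "s" => elS K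

theorem Setup.exists_axis : ∃ P : Subgroup G, Axis K P := by
  haveI := Fact.mk Nat.prime_three
  obtain ⟨n, hn⟩ := (Sylow.exists_subgroup_card_pow_prime (G := cent c) 3 (n := 3)
    (by rw [S.card_cent_c]; norm_num))
  refine ⟨n.map (cent c).subtype, Subgroup.map_subtype_le _, ?_⟩
  rw [Subgroup.card_map_of_injective (cent c).subtype_injective, hn]
  norm_num

theorem Setup.s_mem : s ∈ nc K := Or.inr (by rw [inv_eq_of_mul_eq_one_right S.s_sq, S.s_conj_c])

theorem Setup.cent_le_nc : cent c ≤ nc K := fun _ hg => Or.inl (conj_fix_iff.mpr hg)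

theorem Setup.card_nc : Nat.card (nc K) = 108 := by
  rw [card_eq_mul_orbit (nc K) c S.cent_le_nc {c, c⁻¹} (fun g hg => hg) ?_, S.card_cent_c,
    Nat.card_coe_set_eq, Set.ncard_pair S.c_ne_inv]
  rintro y (rfl | rfl)
  · exact ⟨1, one_mem _, by group⟩
  · exact ⟨s, S.s_mem, by rw [inv_eq_of_mul_eq_one_right S.s_sq, S.s_conj_c]⟩

theorem Setup.ts_sq : t * s * (t * s) = 1 := by rw [← pow_two, ← S.orderOf_ts, pow_orderOf_eq_one]

theorem Setup.ts_conj_c : t * s * c * (t * s) = c⁻¹ := by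
  calc t * s * c * (t * s) = t * s * c * (s * t) := by rw [← S.t_comm_s]
    _ = t * (s * c * s) * t := by simp only [mul_assoc]
    _ = c⁻¹ * (t * t) := by
        rw [S.s_conj_c, ((show Commute t c from S.t_comm_c).inv_right).eq, mul_assoc]
    _ = c⁻¹ := by rw [S.t_sq, mul_one]

variable {P : Subgroup G} (A : Axis K P)
include A

theorem Setup.mem_P {x : G} (hx : x ∈ cent c) (h : x ^ 27 = 1) : x ∈ P :=
  S.mem_of_index_two A.le (by rw [S.card_cent_c, A.card]) hx h

theorem Setup.c_mem_P : c ∈ P :=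
  S.mem_P A S.c_mem (by rw [show 27 = 3 * 9 from rfl, pow_mul, pow_three S.orderOf_c, one_pow])

theorem Setup.nc_normalizes {g : G} (hg : g ∈ nc K) {x : G} (hx : x ∈ P) : g * x * g⁻¹ ∈ P := by
  refine S.mem_P A (mem_cent.mpr ?_) (by rw [conj_pow, S.pow_27 A.card hx, mul_one, mul_inv_cancel])
  have h1 : Commute (g * x * g⁻¹) (g * c * g⁻¹) := by
    show g * x * g⁻¹ * (g * c * g⁻¹) = g * c * g⁻¹ * (g * x * g⁻¹)
    calc g * x * g⁻¹ * (g * c * g⁻¹) = g * (x * c) * g⁻¹ := by group
      _ = g * (c * x) * g⁻¹ := by rw [mem_cent.mp (A.le hx)]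
      _ = _ := by group
  rcases hg with h | h <;> rw [h] at h1
  · exact h1.eq
  · exact inv_inv c ▸ h1.inv_right.eq

theorem Setup.conj_mem {u : G} (hu : u * u = 1) (hnc : u ∈ nc K) {x : G} (hx : x ∈ P) :
    u * x * u ∈ P := by
  have h := S.nc_normalizes A hnc hx
  rwa [inv_eq_of_mul_eq_one_right hu] at h

theorem Setup.t_mem_nc : t ∈ nc K := S.cent_le_nc S.t_mem

theorem Setup.ts_mem_nc : t * s ∈ nc K := mul_mem (S.t_mem_nc A) S.s_mem

theorem Setup.card_inf_invol {u : G} (hu : orderOf u = 2) : Nat.card ↥(P ⊓ cent u) ≤ 3 := by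
  have h1 : Nat.card ↥(P ⊓ cent u) ∣ 27 := A.card ▸ Subgroup.card_dvd_of_le inf_le_left
  have h2 : Nat.card ↥(P ⊓ cent u) ∣ 48 := by
    rw [← K.card_eq, card_cent_of_isConj (S.hone u hu)]
    exact Subgroup.card_dvd_of_le inf_le_right
  exact Nat.le_of_dvd (by norm_num) (Nat.dvd_gcd h1 h2)

theorem Setup.mem_zpowers_of_comm_t {x : G} (hx : x ∈ P) (h : x * t = t * x) :
    x ∈ Subgroup.zpowers c := by
  have he : Subgroup.zpowers c = P ⊓ cent t :=
    Subgroup.eq_of_le_of_card_ge (Subgroup.zpowers_le.mpr ⟨S.c_mem_P A, mem_cent.mpr S.t_comm_c.symm⟩)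
      (by rw [Nat.card_zpowers, S.orderOf_c]; exact S.card_inf_invol A K.orderOf_neg)
  rw [he]; exact ⟨hx, mem_cent.mpr h⟩

theorem Setup.eq_one_of_comm_s {x : G} (hx : x ∈ Subgroup.zpowers c) {u : G} (hu : u * u = 1)
    (huc : u * c * u = c⁻¹) (h : x * u = u * x) : x = 1 := by
  rcases mem_zpowers_three S.orderOf_c hx with rfl | rfl | rfl
  · rfl
  · rw [(invol_fix_iff hu _).mpr h] at huc
    exact absurd huc S.c_ne_inv
  · have := (invol_fix_iff hu _).mpr h
    rw [← invol_conj_inv hu, huc, inv_inv] at this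
    exact absurd this S.c_ne_inv

/-- The Sylow three-subgroup is not abelian. -/
theorem Setup.not_comm (hcomm : ∀ x ∈ P, ∀ y ∈ P, x * y = y * x) : False := by
  haveI := Fact.mk Nat.prime_three
  haveI := Fact.mk Nat.prime_two
  haveI := S.simple
  have hts2 := S.ts_sq
  -- each of the three involutions fixes a line
  set Y := fun u : G => P ⊓ cent u with hY
  have hmemY : ∀ u, u * u = 1 → u ∈ nc K → ∀ y ∈ P, y * (u * y * u) ∈ Y u := fun u hu hun y hy => by
    refine ⟨mul_mem hy (S.conj_mem A hu hun hy), mem_cent.mpr ((invol_fix_iff hu _).mp ?_)⟩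
    rw [invol_conj_mul hu, invol_conj_conj hu]
    exact hcomm _ (S.conj_mem A hu hun hy) _ hy
  have hsurj : Function.Surjective fun q : Y t × Y s × Y (t * s) =>
      (⟨(q.1 : G) * q.2.1 * q.2.2, mul_mem (mul_mem q.1.2.1 q.2.1.2.1) q.2.2.2.1⟩ : P) := by
    rintro ⟨p, hp⟩
    set y := p ^ 14 with hy
    have hyP : y ∈ P := pow_mem hp 14
    have hy2 : y ^ 2 = p := by
      rw [hy, ← pow_mul, show 14 * 2 = 27 + 1 from rfl, pow_succ, S.pow_27 A.card hp, one_mul]
    have ma := S.conj_mem A S.t_sq (S.t_mem_nc A) hyP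
    have mb := S.conj_mem A S.s_sq S.s_mem hyP
    have md := S.conj_mem A hts2 (S.ts_mem_nc A) hyP
    refine ⟨⟨⟨_, hmemY t S.t_sq (S.t_mem_nc A) y hyP⟩, ⟨_, hmemY s S.s_sq S.s_mem y hyP⟩,
      ⟨_, hmemY _ hts2 (S.ts_mem_nc A) y hyP⟩⟩, Subtype.ext ?_⟩
    show y * (t * y * t) * (y * (s * y * s)) * (y * (t * s * y * (t * s))) = p
    letI : CommGroup P := { (inferInstance : Group P) with mul_comm := fun a b => Subtype.ext (hcomm a a.2 b b.2) }
    set n := y * (t * y * t) * (s * y * s) * (t * s * y * (t * s)) with hn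
    have e : y * (t * y * t) * (y * (s * y * s)) * (y * (t * s * y * (t * s))) = y ^ 2 * n := by
      have key : ∀ q a b d : P, q * a * (q * b) * (q * d) = q ^ 2 * (q * a * b * d) := fun q a b d => by
        simp only [pow_two, mul_assoc, mul_left_comm]
      simpa using congrArg Subtype.val (key ⟨y, hyP⟩ ⟨_, ma⟩ ⟨_, mb⟩ ⟨_, md⟩)
    have hnt : t * n * t = n := by
      have e1 : t * (s * y * s) * t = t * s * y * (t * s) := by
        rw [show t * s * y * (t * s) = t * s * y * (s * t) by rw [← S.t_comm_s]]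
        simp only [mul_assoc]
      have e2 : t * (t * s * y * (t * s)) * t = s * y * s := by rw [← e1, invol_conj_conj S.t_sq]
      rw [hn, invol_conj_mul S.t_sq, invol_conj_mul S.t_sq, invol_conj_mul S.t_sq, invol_conj_conj S.t_sq,
        e1, e2]
      have key : ∀ q a b d : P, a * q * d * b = q * a * b * d := fun q a b d => by
        simp only [mul_comm, mul_left_comm]
      simpa using congrArg Subtype.val (key ⟨y, hyP⟩ ⟨_, ma⟩ ⟨_, mb⟩ ⟨_, md⟩)
    have hns : s * n * s = n := by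
      have e1 : s * (t * y * t) * s = t * s * y * (t * s) := by
        calc s * (t * y * t) * s = s * t * y * (t * s) := by simp only [mul_assoc]
          _ = t * s * y * (t * s) := by rw [S.t_comm_s]
      have e2 : s * (t * s * y * (t * s)) * s = t * y * t := by rw [← e1, invol_conj_conj S.s_sq]
      rw [hn, invol_conj_mul S.s_sq, invol_conj_mul S.s_sq, invol_conj_mul S.s_sq, invol_conj_conj S.s_sq,
        e1, e2]
      have key : ∀ q a b d : P, b * d * q * a = q * a * b * d := fun q a b d => by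
        simp only [mul_comm, mul_left_comm]
      simpa using congrArg Subtype.val (key ⟨y, hyP⟩ ⟨_, ma⟩ ⟨_, mb⟩ ⟨_, md⟩)
    have hn1 : n = 1 := by
      refine S.eq_one_of_comm_s A (S.mem_zpowers_of_comm_t A ?_ ((invol_fix_iff S.t_sq n).mp hnt)) S.s_sq
        S.s_conj_c ((invol_fix_iff S.s_sq n).mp hns)
      exact mul_mem (mul_mem (mul_mem hyP ma) mb) md
    rw [e, hn1, mul_one, hy2]
  have h27 := Nat.card_le_card_of_surjective _ hsurj
  rw [A.card, Nat.card_prod, Nat.card_prod] at h27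
  have a1 : Nat.card (Y t) ≤ 3 := S.card_inf_invol A K.orderOf_neg
  have a2 : Nat.card (Y s) ≤ 3 := S.card_inf_invol A S.orderOf_s
  have a3 : Nat.card (Y (t * s)) ≤ 3 := S.card_inf_invol A S.orderOf_ts
  have h3 : Nat.card (Y t) = 3 ∧ Nat.card (Y s) = 3 ∧ Nat.card (Y (t * s)) = 3 := by
    refine ⟨?_, ?_, ?_⟩ <;> nlinarith [Nat.mul_le_mul a2 a3, Nat.mul_le_mul a1 a3, Nat.mul_le_mul a1 a2,
      Nat.mul_le_mul a1 (Nat.mul_le_mul a2 a3)]
  have helem : ∀ u, Nat.card (Y u) = 3 → ∃ x ∈ P, x * u = u * x ∧ orderOf x = 3 := fun u hu => by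
    obtain ⟨x, hx⟩ := exists_prime_orderOf_dvd_card' (G := Y u) 3 (by rw [hu])
    exact ⟨x, x.2.1, mem_cent.mp x.2.2, by rw [Subgroup.orderOf_coe, hx]⟩
  obtain ⟨d, hdP, hds, hdo⟩ := helem s h3.2.1
  have hdc : d ∉ Subgroup.zpowers c := fun hm => by
    have := S.eq_one_of_comm_s A hm S.s_sq S.s_conj_c hds
    rw [this, orderOf_one] at hdo; norm_num at hdo
  obtain ⟨g, hg⟩ := isConj_iff.mp (S.isConj_c hdo S.orderOf_s hds)
  set N := Subgroup.normalizer (P : Set G) with hN
  have hgN : g ∈ N := by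
    have h1 : ∀ x ∈ P, g⁻¹ * x * g ∈ P := fun x hx => S.mem_P A (mem_cent.mpr (by
      calc g⁻¹ * x * g * c = g⁻¹ * (x * (g * c * g⁻¹)) * g := by group
        _ = g⁻¹ * (g * c * g⁻¹ * x) * g := by rw [hg, hcomm x hx d hdP]
        _ = _ := by group)) (by
      rw [show g⁻¹ * x * g = g⁻¹ * x * g⁻¹⁻¹ by rw [inv_inv], conj_pow, S.pow_27 A.card hx, mul_one,
        mul_inv_cancel])
    have h2 : P.map (MulAut.conj g⁻¹).toMonoidHom = P := by
      refine Subgroup.eq_of_le_of_card_ge ?_ ?_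
      · rintro _ ⟨x, hx, rfl⟩
        simpa using h1 x hx
      · rw [Subgroup.card_map_of_injective (MulEquiv.injective _)]
    refine inv_mem_iff.mp (Subgroup.mem_normalizer_iff.mpr fun x => ⟨fun hx => by simpa using h1 x hx, fun hx => ?_⟩)
    have hx' : g⁻¹ * x * g⁻¹⁻¹ ∈ P.map (MulAut.conj g⁻¹).toMonoidHom := h2.symm ▸ hx
    obtain ⟨y, hy, hyx⟩ := hx'
    have : y = x := by simpa using hyx
    exact this ▸ hy
  have hncN : nc K ≤ N := fun w hw => Subgroup.mem_normalizer_iff.mpr fun x => ⟨S.nc_normalizes A hw,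
    fun hx => by simpa [mul_assoc] using S.nc_normalizes A (inv_mem hw) hx⟩
  have hgnc : g ∉ nc K := fun hw => hdc <| by
    rcases hw with h | h <;> rw [← hg, h]
    · exact Subgroup.mem_zpowers c
    · exact inv_mem (Subgroup.mem_zpowers c)
  have h208 : P.index = 208 := by
    have := P.card_mul_index; rw [A.card, S.hcard] at this; omega
  let PS : Sylow 3 G := (IsPGroup.of_card (n := 3) (by rw [A.card]; norm_num) : IsPGroup 3 P).toSylow
    (by rw [h208]; norm_num)
  have hPS : (PS : Subgroup G) = P := IsPGroup.toSylow_coe _ _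
  have hidx : Nat.card (Sylow 3 G) = N.index := by
    rw [hN, ← hPS]; exact Sylow.card_eq_index_normalizer PS
  have hNmul := N.card_mul_index
  rw [S.hcard] at hNmul
  obtain ⟨m, hm⟩ := S.card_nc ▸ Subgroup.card_dvd_of_le hncN
  have hm1 : m ≠ 1 := fun h => hgnc <| by
    have : nc K = N := Subgroup.eq_of_le_of_card_ge hncN (by rw [hm, S.card_nc, h])
    exact this.symm ▸ hgN
  have hmi : m * N.index = 52 := by rw [hm] at hNmul; linarith
  have hmod : N.index % 3 = 1 := hidx ▸ card_sylow_modEq_one 3 G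
  have hNtop : N ≠ ⊤ := fun h => by
    rcases (Subgroup.normalizer_eq_top_iff.mp h).eq_bot_or_eq_top with h' | h' <;>
      have := A.card <;> rw [h'] at this <;> simp [S.hcard] at this
  have hm4 : m = 4 := by
    have hi52 : N.index ∣ 52 := ⟨m, by rw [← hmi, mul_comm]⟩
    have key : ∀ i < 53, i ∣ 52 → i % 3 = 1 → i = 1 ∨ i = 4 ∨ i = 13 ∨ i = 52 := by decide +kernel
    rcases key _ (Nat.lt_succ_of_le (Nat.le_of_dvd (by norm_num) hi52)) hi52 hmod with h | h | h | h
    · exact absurd (Subgroup.index_eq_one.mp h) hNtop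
    · exfalso
      have hinj : Function.Injective (MulAction.toPermHom G (G ⧸ N)) := by
        rw [← MonoidHom.ker_eq_bot_iff]
        refine (Subgroup.Normal.eq_bot_or_eq_top inferInstance).resolve_right fun h' => hNtop ?_
        rw [← Subgroup.normalCore_eq_ker] at h'
        exact top_le_iff.mp (h' ▸ Subgroup.normalCore_le N)
      have := Nat.card_le_card_of_injective _ hinj
      rw [S.hcard, Nat.card_perm, ← Subgroup.index_eq_card, h] at this
      norm_num at this
    · rw [h] at hmi; omega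
    · rw [h] at hmi; omega
  subst hm4
  -- a Sylow two-subgroup of the normalizer containing the four-group
  set V := (cent t ⊓ cent s).subgroupOf N with hV
  have hVel : ∀ v ∈ cent t ⊓ cent s, v = 1 ∨ v = t ∨ v = s ∨ v = t * s := by
    rintro v ⟨hvt, hvs⟩
    obtain ⟨i, rfl⟩ := exists_el K (mem_cent.mp hvt)
    rcases cent_s0 i ((el_comm_iff K _ _).mp (mem_cent.mp hvs)) with rfl | rfl | rfl | rfl
    · exact Or.inl (el_zero K)
    · exact Or.inr (Or.inl (el_neg K))
    · exact Or.inr (Or.inr (Or.inl rfl))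
    · exact Or.inr (Or.inr (Or.inr (by rw [el_mul, el_neg]; rfl)))
  have hV2 : IsPGroup 2 V := fun v => ⟨1, Subtype.ext (Subtype.ext (by
    have hh : ((v : N) : G) * (v : N) = 1 := by
      rcases hVel _ (Subgroup.mem_subgroupOf.mp v.2) with h | h | h | h <;> rw [h]
      exacts [one_mul _, S.t_sq, S.s_sq, hts2]
    simpa [pow_two] using hh))⟩
  obtain ⟨T, hT⟩ := hV2.exists_le_sylow
  have hTt : ∀ v ∈ cent t ⊓ cent s, v ∈ (T : Subgroup N).map N.subtype := fun v hv =>
    ⟨⟨v, hncN (by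
      rcases hVel v hv with rfl | rfl | rfl | rfl
      exacts [one_mem _, S.t_mem_nc A, S.s_mem, S.ts_mem_nc A])⟩, hT hv, rfl⟩
  set T' := (T : Subgroup N).map N.subtype with hT'
  have hT16 : Nat.card T' = 16 := by
    rw [hT', Subgroup.card_map_of_injective N.subtype_injective]
    obtain ⟨k, hk⟩ := T.isPGroup'.exists_card_eq
    have h1 : 2 ^ 4 ∣ Nat.card (T : Subgroup N) := T.pow_dvd_card_of_pow_dvd_card (by rw [hm]; norm_num)
    have h2 : Nat.card (T : Subgroup N) ∣ 108 * 4 := hm ▸ Subgroup.card_subgroup_dvd_card _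
    rw [hk] at h1 h2 ⊢
    have h4 : 4 ≤ k := (Nat.pow_dvd_pow_iff_le_right (by norm_num)).mp h1
    have h5 : k < 5 := by
      by_contra hc
      have h32 : (2 : ℕ) ^ 5 ∣ 108 * 4 := (pow_dvd_pow 2 (by omega)).trans h2
      norm_num at h32
    obtain rfl : k = 4 := by omega
    norm_num
  have hTp : IsPGroup 2 T' := T.isPGroup'.map _
  haveI : Nontrivial T' := by rw [← Finite.one_lt_card_iff_nontrivial, hT16]; norm_num
  haveI := hTp.center_nontrivial
  obtain ⟨z, hz⟩ := exists_prime_orderOf_dvd_card' 2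
    (show 2 ∣ Nat.card (Subgroup.center T') from
      ((hTp.to_subgroup _).nontrivial_iff_card.mp inferInstance).elim fun n hn =>
        hn.2 ▸ dvd_pow_self 2 hn.1.ne')
  have hzo : orderOf ((z : T') : G) = 2 := by rw [Subgroup.orderOf_coe, Subgroup.orderOf_coe, hz]
  have hzc : ∀ w ∈ T', w * ((z : T') : G) = ((z : T') : G) * w := fun w hw =>
    congrArg Subtype.val (Subgroup.mem_center_iff.mp z.2 ⟨w, hw⟩)
  have htV : t ∈ cent t ⊓ cent s := ⟨mem_cent.mpr rfl, mem_cent.mpr S.t_comm_s⟩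
  have hsV : s ∈ cent t ⊓ cent s := ⟨mem_cent.mpr S.t_comm_s.symm, mem_cent.mpr rfl⟩
  have hzY : Nat.card (Y (z : T')) = 3 := by
    rcases hVel _ ⟨mem_cent.mpr (hzc t (hTt t htV)).symm, mem_cent.mpr (hzc s (hTt s hsV)).symm⟩ with
      h | h | h | h
    · rw [h, orderOf_one] at hzo; norm_num at hzo
    all_goals rw [h]
    exacts [h3.1, h3.2.1, h3.2.2]
  obtain ⟨x, hxP, hxz, hxo⟩ := helem _ hzY
  have hYx : Y (z : T') = Subgroup.zpowers x := (Subgroup.eq_of_le_of_card_ge
    (Subgroup.zpowers_le.mpr (show x ∈ P ⊓ cent ((z : T') : G) from ⟨hxP, mem_cent.mpr hxz⟩)) (by rw [Nat.card_zpowers, hxo]; exact hzY.le)).symm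
  obtain ⟨h, hh⟩ := isConj_iff.mp (S.hone _ hzo)
  obtain ⟨i, hi⟩ := exists_el K (show h⁻¹ * x * h * t = t * (h⁻¹ * x * h) by
    calc h⁻¹ * x * h * t = h⁻¹ * (x * (h * t * h⁻¹)) * h := by group
      _ = h⁻¹ * (h * t * h⁻¹ * x) * h := by rw [hh, hxz]
      _ = _ := by group)
  have hio : orderOf (el K i) = 3 := by
    rw [hi, show h⁻¹ * x * h = MulAut.conj h⁻¹ x by simp, MulEquiv.orderOf_eq, hxo]
  have hi3 : mulI i (mulI i i) = 0 := el_injective K (by
    rw [el_mul, el_mul, el_zero, ← pow_three hio, pow_succ', pow_two])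
  have hj : ∀ w : T', ∃ j, el K j = h⁻¹ * w * h ∧
      j ∈ Finset.univ.filter fun j => mulI j i = mulI i j ∨ mulI j i = mulI (mulI i i) j := by
    intro w
    obtain ⟨j, hj⟩ := exists_el K (show h⁻¹ * w * h * t = t * (h⁻¹ * w * h) by
      calc h⁻¹ * (w : G) * h * t = h⁻¹ * ((w : G) * (h * t * h⁻¹)) * h := by group
        _ = h⁻¹ * (h * t * h⁻¹ * w) * h := by rw [hh, hzc w w.2]
        _ = _ := by group)
    refine ⟨j, hj, Finset.mem_filter.mpr ⟨Finset.mem_univ _, ?_⟩⟩
    obtain ⟨w', hw', hww⟩ := w.2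
    have hwN : (w : G) ∈ N := hww ▸ w'.2
    have hmem : (w : G) * x * (w : G)⁻¹ ∈ Y (z : T') := by
      refine ⟨(Subgroup.mem_normalizer_iff.mp hwN x).mp hxP, mem_cent.mpr ?_⟩
      have := hzc w w.2
      calc (w : G) * x * (w : G)⁻¹ * (z : T') = w * x * ((z : T') * (w : G))⁻¹ * ((z : T') * (z : T') : G) := by
            rw [mul_inv_rev, ← mul_assoc]; simp only [mul_assoc, inv_mul_cancel_left]
        _ = w * x * ((w : G) * (z : T'))⁻¹ * ((z : T') * (z : T') : G) := by rw [this]
        _ = w * (x * (z : T')) * (w : G)⁻¹ := by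
            rw [← pow_two, ← hzo, pow_orderOf_eq_one, mul_one, mul_inv_rev,
              inv_eq_of_mul_eq_one_right (show ((z : T') : G) * (z : T') = 1 by
                rw [← pow_two, ← hzo, pow_orderOf_eq_one])]
            simp only [mul_assoc]
        _ = (z : T') * ((w : G) * x * (w : G)⁻¹) := by
            rw [hxz]; simp only [← mul_assoc, this]
    rw [hYx] at hmem
    have e : el K j * el K i * (el K j)⁻¹ = h⁻¹ * ((w : G) * x * (w : G)⁻¹) * h := by rw [hj, hi]; group
    rcases mem_zpowers_three hxo hmem with h1 | h1 | h1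
    · rw [conj_eq_one_iff] at h1
      rw [h1, orderOf_one] at hxo; norm_num at hxo
    · refine Or.inl (el_injective K ?_)
      rw [h1, ← hi, mul_inv_eq_iff_eq_mul] at e
      rw [el_mul, el_mul, e]
    · refine Or.inr (el_injective K ?_)
      have h2 : x⁻¹ = x * x := inv_eq_of_mul_eq_one_right (by rw [← mul_assoc, ← pow_two, ← pow_succ, pow_three hxo])
      rw [h1, h2, show h⁻¹ * (x * x) * h = (h⁻¹ * x * h) * (h⁻¹ * x * h) by group, ← hi,
        mul_inv_eq_iff_eq_mul] at e
      rw [el_mul, el_mul, el_mul, e]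
  choose j hj1 hj2 using hj
  have hle := Nat.card_le_card_of_injective
    (fun w : T' => (⟨j w, hj2 w⟩ : ↥(Finset.univ.filter fun j => mulI j i = mulI i j ∨ mulI j i = mulI (mulI i i) j)))
    fun a b hab => by
      have e := congrArg (fun q => el K (Subtype.val q)) hab
      simp only [hj1] at e
      exact Subtype.ext (mul_left_cancel (mul_right_cancel e))
  rw [hT16, Nat.card_eq_fintype_card, Fintype.card_coe] at hle
  have := norm_three i hi3 fun h0 => by rw [h0, el_zero, orderOf_one] at hio; norm_num at hio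
  omega

/-- The centre of the Sylow three-subgroup. -/
theorem Setup.central_mem {x : G} (hx : x ∈ P) (hc : ∀ y ∈ P, x * y = y * x) :
    x ∈ Subgroup.zpowers c := by
  by_contra hxc
  refine S.not_comm A fun y hy z hz => ?_
  have key : ∀ y ∈ P, y ∉ Subgroup.closure {c, x} → P ≤ cent y := by
    intro y hy hyn
    set B := P ⊓ cent y with hB
    have hA1 : Subgroup.closure {c, x} ≤ B := (Subgroup.closure_le _).mpr (by
      rintro v (rfl | rfl)
      · exact ⟨S.c_mem_P A, mem_cent.mpr (mem_cent.mp (A.le hy)).symm⟩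
      · exact ⟨hx, mem_cent.mpr (hc y hy)⟩)
    have h1 : Subgroup.zpowers c < Subgroup.closure {c, x} := lt_of_le_of_ne
      (Subgroup.zpowers_le.mpr (Subgroup.subset_closure (by simp)))
      fun h => hxc (h ▸ Subgroup.subset_closure (by simp))
    have h2 : Subgroup.closure {c, x} < B := lt_of_le_of_ne hA1
      fun h => hyn (h ▸ (⟨hy, mem_cent.mpr rfl⟩ : y ∈ B))
    have d1 := Subgroup.card_dvd_of_le h1.le
    have d2 := Subgroup.card_dvd_of_le h2.le
    have d3 : Nat.card B ∣ 27 := A.card ▸ Subgroup.card_dvd_of_le inf_le_left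
    rw [Nat.card_zpowers, S.orderOf_c] at d1
    have n1 : Nat.card (Subgroup.closure {c, x}) ≠ 3 := fun h => h1.ne (Subgroup.eq_of_le_of_card_ge h1.le
      (by rw [Nat.card_zpowers, S.orderOf_c, h]))
    have n2 : Nat.card (Subgroup.closure {c, x}) ≠ Nat.card B := fun h => h2.ne
      (Subgroup.eq_of_le_of_card_ge h2.le h.ge)
    generalize Nat.card (Subgroup.closure {c, x}) = a at *
    have hd : ∀ n < 28, n ∣ 27 → n = 1 ∨ n = 3 ∨ n = 9 ∨ n = 27 := by decide +kernel
    have ha := d2.trans d3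
    rcases hd _ (Nat.lt_succ_of_le (Nat.le_of_dvd (by norm_num) ha)) ha with rfl | rfl | rfl | rfl
    · norm_num at d1
    · exact absurd rfl n1
    all_goals
      rcases hd _ (Nat.lt_succ_of_le (Nat.le_of_dvd (by norm_num) d3)) d3 with hq | hq | hq | hq <;>
        rw [hq] at d2 n2 <;> first
          | omega
          | (intro w hw; rw [← Subgroup.eq_of_le_of_card_ge (inf_le_left : B ≤ P) (by rw [A.card, hq])] at hw; exact hw.2)
  by_cases hyn : y ∈ Subgroup.closure {c, x}
  · have hle : Subgroup.closure {c, x} ≤ cent z := (Subgroup.closure_le _).mpr (by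
      rintro v (rfl | rfl)
      · exact mem_cent.mpr (mem_cent.mp (A.le hz)).symm
      · exact mem_cent.mpr (hc z hz))
    exact mem_cent.mp (hle hyn)
  · exact (mem_cent.mp (key y hy hyn hz)).symm

end CfsgLib.GLTwoThreeRecog
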