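import Cfsg.Agent.Lib.GLTwoThreeRecog.Simple

/-!
# The three-local structure: the centralizer of an element of order three
-/

set_option autoImplicit false
set_option linter.unusedSectionVars false
set_option linter.style.haveILetI false

namespace CfsgLib.GLTwoThreeRecog

open Cfsg CfsgLib.GLTwoThreeCent

section Generic

variable {G : Type*} [Group G]

/-- Abbreviation for the centralizer of an element. -/
abbrev cent (x : G) : Subgroup G := Subgroup.centralizer ({x} : Set G)

theorem mem_cent {x g : G} : g ∈ cent x ↔ g * x = x * g := Subgroup.mem_centralizer_singleton_iff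

theorem conj_fix_iff {x g : G} : g * x * g⁻¹ = x ↔ g ∈ cent x := by
  rw [mem_cent, mul_inv_eq_iff_eq_mul]

theorem card_cent_of_isConj {x y : G} (h : IsConj x y) : Nat.card (cent x) = Nat.card (cent y) := by
  obtain ⟨g, rfl⟩ := isConj_iff.mp h
  refine Nat.card_congr ((MulAut.conj g).toEquiv.subtypeEquiv fun a => ?_)
  simp only [mem_cent, MulEquiv.toEquiv_eq_coe, EquivLike.coe_coe, MulAut.conj_apply]
  constructor <;> intro h
  · calc g * a * g⁻¹ * (g * x * g⁻¹) = g * (a * x) * g⁻¹ := by group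
      _ = g * (x * a) * g⁻¹ := by rw [h]
      _ = _ := by group
  · calc a * x = g⁻¹ * (g * a * g⁻¹ * (g * x * g⁻¹)) * g := by group
      _ = g⁻¹ * (g * x * g⁻¹ * (g * a * g⁻¹)) * g := by rw [h]
      _ = _ := by group

variable [Finite G]

/-- Orbit and stabilizer for conjugation. -/
theorem card_eq_mul_orbit (M : Subgroup G) (x : G) (hle : cent x ≤ M) (S : Set G)
    (h1 : ∀ g ∈ M, g * x * g⁻¹ ∈ S) (h2 : ∀ y ∈ S, ∃ g ∈ M, g * x * g⁻¹ = y) :
    Nat.card M = Nat.card S * Nat.card (cent x) := by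
  rw [Subgroup.card_eq_card_quotient_mul_card_subgroup ((cent x).subgroupOf M),
    Nat.card_congr (Subgroup.subgroupOfEquivOfLe hle).toEquiv]
  congr 1
  refine Nat.card_congr (Equiv.ofBijective (Quotient.lift
    (fun g : M => (⟨(g : G) * x * (g : G)⁻¹, h1 g g.2⟩ : S)) ?_) ⟨?_, ?_⟩)
  · intro a b hab
    have h : (a : G)⁻¹ * b ∈ cent x :=
      (QuotientGroup.leftRel_apply (s := (cent x).subgroupOf M) (x := a) (y := b)).mp hab
    rw [← conj_fix_iff] at h
    refine Subtype.ext ?_
    calc (a : G) * x * (a : G)⁻¹ = a * ((a : G)⁻¹ * b * x * ((a : G)⁻¹ * b)⁻¹) * (a : G)⁻¹ := by rw [h]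
      _ = (b : G) * x * (b : G)⁻¹ := by group
  · intro a b
    induction a using QuotientGroup.induction_on with
    | H a =>
      induction b using QuotientGroup.induction_on with
      | H b =>
        intro h
        refine QuotientGroup.eq.mpr (Subgroup.mem_subgroupOf.mpr (conj_fix_iff.mp ?_))
        have h' : (a : G) * x * (a : G)⁻¹ = (b : G) * x * (b : G)⁻¹ := congrArg Subtype.val h
        simp only [Subgroup.coe_mul, Subgroup.coe_inv]
        calc (a : G)⁻¹ * b * x * ((a : G)⁻¹ * b)⁻¹ = (a : G)⁻¹ * ((b : G) * x * (b : G)⁻¹) * a := by group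
          _ = x := by rw [← h']; group
  · rintro ⟨y, hy⟩
    obtain ⟨g, hg, rfl⟩ := h2 y hy
    exact ⟨QuotientGroup.mk ⟨g, hg⟩, rfl⟩

/-- A subgroup whose order is twenty-seven and a central element of order three in it. -/
theorem commutator_mem_zpowers {P : Subgroup G} (hP : Nat.card P = 27) {a : G} (haP : a ∈ P)
    (ha : orderOf a = 3) (hac : ∀ x ∈ P, x * a = a * x) {x y : G} (hx : x ∈ P) (hy : y ∈ P) :
    x * y * x⁻¹ * y⁻¹ ∈ Subgroup.zpowers a := by
  haveI := Fact.mk Nat.prime_three
  let A : Subgroup P := Subgroup.zpowers ⟨a, haP⟩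
  haveI : A.Normal := ⟨fun n hn g => by
    obtain ⟨k, rfl⟩ := Subgroup.mem_zpowers_iff.mp hn
    have : Commute g (⟨a, haP⟩ : P) := Subtype.ext (hac g g.2)
    rw [(this.zpow_right k).eq, mul_inv_cancel_right]
    exact hn⟩
  have hq : Nat.card (P ⧸ A) = 3 ^ 2 := by
    have h := Subgroup.card_eq_card_quotient_mul_card_subgroup A
    rw [hP, Nat.card_zpowers, Subgroup.orderOf_mk, ha] at h
    omega
  have h := IsPGroup.commutative_of_card_eq_prime_sq hq (QuotientGroup.mk ⟨x, hx⟩) (QuotientGroup.mk ⟨y, hy⟩)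
  have h' : ((⟨x, hx⟩ * ⟨y, hy⟩ * ⟨x, hx⟩⁻¹ * ⟨y, hy⟩⁻¹ : P) : P ⧸ A) = 1 := by
    rw [QuotientGroup.mk_mul, QuotientGroup.mk_mul, QuotientGroup.mk_mul, h, QuotientGroup.mk_inv,
      QuotientGroup.mk_inv, mul_inv_cancel_right, mul_inv_cancel]
  obtain ⟨k, hk⟩ := Subgroup.mem_zpowers_iff.mp ((QuotientGroup.eq_one_iff _).mp h')
  exact Subgroup.mem_zpowers_iff.mpr ⟨k, by simpa using congrArg Subtype.val hk⟩

/-- A noncentral element is conjugate to all its translates by the centre. -/
theorem exists_conj_mul {P : Subgroup G} (hP : Nat.card P = 27) {a : G} (haP : a ∈ P)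
    (ha : orderOf a = 3) (hac : ∀ x ∈ P, x * a = a * x) {e : G} (he : e ∈ P)
    (hne : ∃ x ∈ P, x * e ≠ e * x) {z : G} (hz : z ∈ Subgroup.zpowers a) :
    ∃ p ∈ P, p * e * p⁻¹ = e * z := by
  have hmem : ∀ p ∈ P, e⁻¹ * (p * e * p⁻¹) ∈ Subgroup.zpowers a := fun p hp => by
    have := commutator_mem_zpowers hP haP ha hac (inv_mem he) hp
    simpa [mul_assoc] using this
  let δ : P →* Subgroup.zpowers a := MonoidHom.mk' (fun p => ⟨_, hmem p p.2⟩) fun p q => by
    refine Subtype.ext ?_
    simp only [Subgroup.coe_mul]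
    set k := e⁻¹ * ((q : G) * e * (q : G)⁻¹) with hk
    have hcp : (p : G) * k = k * p := by
      obtain ⟨n, hn⟩ := Subgroup.mem_zpowers_iff.mp (hmem q q.2)
      rw [hk, ← hn]
      exact ((show Commute (p : G) a from hac p p.2).zpow_right n).eq
    calc e⁻¹ * ((p : G) * q * e * ((p : G) * q)⁻¹) = e⁻¹ * (p : G) * e * ((p : G)⁻¹ * (p * k)) * (p : G)⁻¹ := by
          rw [hk]; group
      _ = e⁻¹ * (p : G) * e * ((p : G)⁻¹ * (k * p)) * (p : G)⁻¹ := by rw [hcp]
      _ = e⁻¹ * ((p : G) * e * (p : G)⁻¹) * k := by group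
  have h3 : Nat.card (Subgroup.zpowers a) = 3 := by rw [Nat.card_zpowers, ha]
  haveI := Fact.mk (show (Nat.card (Subgroup.zpowers a)).Prime by rw [h3]; norm_num)
  rcases Subgroup.eq_bot_or_eq_top_of_prime_card δ.range with h | h
  · obtain ⟨x, hx, hxe⟩ := hne
    refine absurd ?_ hxe
    have h1 : δ ⟨x, hx⟩ = 1 := Subgroup.mem_bot.mp (h ▸ ⟨_, rfl⟩)
    have h2 : e⁻¹ * (x * e * x⁻¹) = 1 := congrArg Subtype.val h1
    exact mul_inv_eq_iff_eq_mul.mp (inv_mul_eq_one.mp h2).symm
  · obtain ⟨p, hp⟩ := h.symm ▸ Subgroup.mem_top (⟨z, hz⟩ : Subgroup.zpowers a)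
    refine ⟨p, p.2, ?_⟩
    have h2 : e⁻¹ * ((p : G) * e * (p : G)⁻¹) = z := congrArg Subtype.val hp
    rw [← h2, mul_inv_cancel_left]

theorem mem_zpowers_three {a z : G} (ha : orderOf a = 3) (hz : z ∈ Subgroup.zpowers a) :
    z = 1 ∨ z = a ∨ z = a⁻¹ := by
  classical
  obtain ⟨k, hk, rfl⟩ := Finset.mem_image.mp ((isOfFinOrder_of_finite a).mem_zpowers_iff_mem_range_orderOf.mp hz)
  rw [Finset.mem_range, ha] at hk
  interval_cases k
  · exact Or.inl (pow_zero a)
  · exact Or.inr (Or.inl (pow_one a))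
  · refine Or.inr (Or.inr (eq_inv_of_mul_eq_one_left ?_))
    rw [← pow_succ]
    exact orderOf_dvd_iff_pow_eq_one.mp ha.dvd

theorem pow_three {a : G} (ha : orderOf a = 3) : a ^ 3 = 1 := orderOf_dvd_iff_pow_eq_one.mp ha.dvd

theorem prod_injective {x y : G} (hx : orderOf x = 3) (hy : orderOf y = 3)
    (hxy : y ∉ Subgroup.zpowers x) :
    Function.Injective fun q : Fin 3 × Fin 3 => x ^ q.1.val * y ^ q.2.val := by
  rintro ⟨i, j⟩ ⟨i', j'⟩ he
  simp only at he
  have hm : y ^ j.val * (y ^ j'.val)⁻¹ ∈ Subgroup.zpowers x := by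
    have : y ^ j.val * (y ^ j'.val)⁻¹ = (x ^ i.val)⁻¹ * x ^ i'.val := by
      calc y ^ j.val * (y ^ j'.val)⁻¹ = (x ^ i.val)⁻¹ * (x ^ i.val * y ^ j.val) * (y ^ j'.val)⁻¹ := by group
        _ = _ := by rw [he]; group
    rw [this]
    exact mul_mem (inv_mem (Subgroup.npow_mem_zpowers x _)) (Subgroup.npow_mem_zpowers x _)
  have h1 : y ^ j.val * (y ^ j'.val)⁻¹ = 1 := by
    rcases mem_zpowers_three hy (mul_mem (Subgroup.npow_mem_zpowers y j.val)
      (inv_mem (Subgroup.npow_mem_zpowers y j'.val))) with h | h | h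
    · exact h
    · exact absurd (h ▸ hm) hxy
    · exact absurd (inv_mem_iff.mp (h ▸ hm)) hxy
  have hj : j.val = j'.val := pow_injOn_Iio_orderOf (x := y)
    (by simpa [hy] using j.isLt) (by simpa [hy] using j'.isLt) (mul_inv_eq_one.mp h1)
  rw [hj] at he
  have hi : i.val = i'.val := pow_injOn_Iio_orderOf (x := x)
    (by simpa [hx] using i.isLt) (by simpa [hx] using i'.isLt) (mul_right_cancel he)
  exact Prod.ext (Fin.ext hi) (Fin.ext hj)

end Generic

variable {G : Type*} [Group G] {t : G}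

/-- The standing hypotheses. -/
structure Setup (K : Coord t) : Prop where
  hone : ∀ u : G, orderOf u = 2 → IsConj t u
  hcard : Nat.card G = 5616
  simple : IsSimpleGroup G

/-- The element of order three. -/
noncomputable def elC (K : Coord t) : G := el K c0

/-- The involution inverting it. -/
noncomputable def elS (K : Coord t) : G := el K s0

variable {K : Coord t} (S : Setup K)
include S

local notation "c" => elC K
local notation "s" => elS K

theorem Setup.orderOf_c : orderOf c = 3 := by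
  haveI := Fact.mk Nat.prime_three
  refine orderOf_eq_prime ?_ fun h => c0_facts.2.1 (el_injective K (h.trans (el_zero K).symm))
  rw [pow_succ', pow_two, elC, ← el_mul, ← el_mul, c0_facts.1, el_zero]

theorem Setup.c_ne_one : c ≠ 1 := fun h => by
  have := S.orderOf_c; rw [h, orderOf_one] at this; norm_num at this

theorem Setup.c_ne_inv : c ≠ c⁻¹ := fun h => by
  have h2 : c ^ 2 = 1 := by rw [pow_two]; exact mul_eq_one_iff_eq_inv.mpr h
  have h3 := orderOf_dvd_of_pow_eq_one h2
  rw [S.orderOf_c] at h3; norm_num at h3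

theorem Setup.t_sq : t * t = 1 := by rw [← pow_two, ← K.orderOf_neg, pow_orderOf_eq_one]

theorem Setup.s_sq : s * s = 1 := by rw [elS, ← el_mul, s0_facts.1.1, el_zero]

theorem Setup.orderOf_s : orderOf s = 2 := orderOf_el K s0_facts.1

theorem Setup.t_comm_c : t * c = c * t := (el_commute_t K c0).symm

theorem Setup.t_comm_s : t * s = s * t := (el_commute_t K s0).symm

theorem Setup.orderOf_ts : orderOf (t * s) = 2 := by
  rw [show t * s = el K (mulI negI s0) by rw [el_mul, el_neg]; rfl]
  exact orderOf_el K (by decide +kernel)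

theorem Setup.s_conj_c : s * c * s = c⁻¹ := by
  refine eq_inv_of_mul_eq_one_left ?_
  rw [elS, elC, ← el_mul, ← el_mul, s0_facts.2.2.2, el_mul, mul_assoc, ← el_mul, ← el_mul,
    c0_facts.1, el_zero]

/-- An element of order three commuting with an involution is conjugate to the standard one. -/
theorem Setup.isConj_c {x u : G} (hx : orderOf x = 3) (hu : orderOf u = 2) (hxu : x * u = u * x) :
    IsConj c x := by
  obtain ⟨g, rfl⟩ := isConj_iff.mp (S.hone u hu)
  obtain ⟨i, hi⟩ := exists_el K (show g⁻¹ * x * g * t = t * (g⁻¹ * x * g) by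
    calc g⁻¹ * x * g * t = g⁻¹ * (x * (g * t * g⁻¹)) * g := by group
      _ = g⁻¹ * (g * t * g⁻¹ * x) * g := by rw [hxu]
      _ = _ := by group)
  have hio : orderOf (el K i) = 3 := by
    rw [hi, show g⁻¹ * x * g = MulAut.conj g⁻¹ x by simp, MulEquiv.orderOf_eq, hx]
  have h3 : mulI i (mulI i i) = 0 := el_injective K (by
    rw [el_mul, el_mul, el_zero, ← pow_orderOf_eq_one (el K i), hio, pow_succ', pow_two])
  obtain ⟨k, hk⟩ := three_conj i h3 fun h => by
    rw [h, el_zero, orderOf_one] at hio; norm_num at hio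
  refine IsConj.symm (isConj_iff.mpr ⟨el K k * g⁻¹, ?_⟩)
  have hk' : el K k * el K i = c * el K k := by rw [← el_mul, hk, el_mul]; rfl
  calc el K k * g⁻¹ * x * (el K k * g⁻¹)⁻¹ = el K k * (g⁻¹ * x * g) * (el K k)⁻¹ := by group
    _ = c := by rw [← hi, hk', mul_inv_cancel_right]

theorem Setup.invol_cent_c {u : G} (hu : orderOf u = 2) (hut : u * t = t * u) (huc : u * c = c * u) :
    u = t := by
  obtain ⟨i, rfl⟩ := exists_el K hut
  rw [invol_cent_c0 i (invol_of_orderOf K hu) ((el_comm_iff K i c0).mp huc), el_neg]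

variable [Finite G]

theorem Setup.card_inf : Nat.card ↥(cent c ⊓ cent t) = 6 := by
  rw [← c0_facts.2.2.2, ← Fintype.card_coe, ← Nat.card_eq_fintype_card]
  refine Nat.card_congr (Equiv.ofBijective (fun k : (Finset.univ.filter fun k => mulI k c0 = mulI c0 k) =>
    (⟨el K k.1, mem_cent.mpr ((el_comm_iff K _ _).mpr (Finset.mem_filter.mp k.2).2), el_mem K k.1⟩ :
      ↥(cent c ⊓ cent t))) ⟨?_, ?_⟩).symm
  · exact fun a b h => Subtype.ext (el_injective K (Subtype.mk.inj h))
  · rintro ⟨x, hx1, hx2⟩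
    obtain ⟨i, rfl⟩ := exists_el K (mem_cent.mp hx2)
    exact ⟨⟨i, Finset.mem_filter.mpr ⟨Finset.mem_univ _, (el_comm_iff K _ _).mp (mem_cent.mp hx1)⟩⟩, rfl⟩

theorem Setup.t_mem : t ∈ cent c := mem_cent.mpr S.t_comm_c

theorem Setup.c_mem : c ∈ cent c := mem_cent.mpr rfl

theorem Setup.four_not_dvd : ¬ 4 ∣ Nat.card (cent c) := by
  intro h4
  haveI := Fact.mk Nat.prime_two
  have ht : orderOf (⟨t, S.t_mem⟩ : cent c) = 2 := by rw [Subgroup.orderOf_mk, K.orderOf_neg]
  obtain ⟨T, hT⟩ := (IsPGroup.of_card (p := 2) (n := 1)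
    (show Nat.card (Subgroup.zpowers (⟨t, S.t_mem⟩ : cent c)) = 2 ^ 1 by
      rw [Nat.card_zpowers, ht, pow_one])).exists_le_sylow
  have h4T : 4 ∣ Nat.card (T : Subgroup (cent c)) :=
    T.pow_dvd_card_of_pow_dvd_card (n := 2) h4
  haveI : Nontrivial T := by
    rw [← Finite.one_lt_card_iff_nontrivial]
    exact lt_of_lt_of_le (by norm_num) (Nat.le_of_dvd Nat.card_pos h4T)
  haveI := T.isPGroup'.center_nontrivial
  obtain ⟨z, hz⟩ := exists_prime_orderOf_dvd_card' 2
    (show 2 ∣ Nat.card (Subgroup.center T) from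
      ((T.isPGroup'.to_subgroup _).nontrivial_iff_card.mp inferInstance).elim fun n hn =>
        hn.2 ▸ dvd_pow_self 2 hn.1.ne')
  have hzc : ∀ w (hw : w ∈ (T : Subgroup (cent c))),
      (w : G) * (((z : T) : cent c) : G) = (((z : T) : cent c) : G) * w := fun w hw =>
    congrArg (fun x : T => ((x : cent c) : G)) (Subgroup.mem_center_iff.mp z.2 ⟨w, hw⟩)
  have hzo : orderOf (((z : T) : cent c) : G) = 2 := by
    rw [Subgroup.orderOf_coe, Subgroup.orderOf_coe, Subgroup.orderOf_coe, hz]
  have hzt := S.invol_cent_c hzo (hzc _ (hT (Subgroup.mem_zpowers _))).symm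
    (mem_cent.mp ((z : T) : cent c).2)
  have hle : (T : Subgroup (cent c)).map (cent c).subtype ≤ cent c ⊓ cent t := by
    rintro _ ⟨w, hw, rfl⟩
    exact ⟨w.2, mem_cent.mpr (by have := hzc w hw; rwa [hzt] at this)⟩
  have h6 := Subgroup.card_dvd_of_le hle
  rw [Subgroup.card_map_of_injective (cent c).subtype_injective, S.card_inf] at h6
  exact absurd (h4T.trans h6) (by norm_num)

theorem Setup.two_dvd : 6 ∣ Nat.card (cent c) :=
  S.card_inf ▸ Subgroup.card_dvd_of_le inf_le_left

theorem Setup.thirteen_not_dvd : ¬ 13 ∣ Nat.card (cent c) := by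
  intro h13
  haveI := Fact.mk (show Nat.Prime 13 by norm_num)
  haveI := S.simple
  obtain ⟨a, ha⟩ := exists_prime_orderOf_dvd_card' 13 h13
  have hao : orderOf (a : G) = 13 := by rw [Subgroup.orderOf_coe, ha]
  obtain ⟨A, hA⟩ := (IsPGroup.of_card (p := 13) (n := 1)
    (show Nat.card (Subgroup.zpowers a) = 13 ^ 1 by rw [Nat.card_zpowers, ha, pow_one])).exists_le_sylow
  obtain ⟨B, hB⟩ := (A.isPGroup'.map (cent c).subtype).exists_le_sylow
  have hA13 : Nat.card (A : Subgroup (cent c)) = 13 := by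
    obtain ⟨n, hn⟩ := A.isPGroup'.exists_card_eq
    have h1 : Nat.card (A : Subgroup (cent c)) ∣ 5616 := by
      rw [← S.hcard]
      exact (Subgroup.card_subgroup_dvd_card _).trans (Subgroup.card_subgroup_dvd_card _)
    have h2 : 13 ∣ Nat.card (A : Subgroup (cent c)) := by
      exact ha.symm.dvd.trans (Subgroup.orderOf_dvd_natCard _ (hA (Subgroup.mem_zpowers a)))
    rw [hn] at h1 h2 ⊢
    have hn2 : n < 2 := by
      by_contra hc
      have h169 : (13 : ℕ) ^ 2 ∣ 5616 := (pow_dvd_pow 13 (by omega)).trans h1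
      norm_num at h169
    interval_cases n <;> norm_num at *
  have hB13 : Nat.card (B : Subgroup G) = 13 := by
    obtain ⟨n, hn⟩ := B.isPGroup'.exists_card_eq
    have h1 : Nat.card (B : Subgroup G) ∣ 5616 := S.hcard ▸ Subgroup.card_subgroup_dvd_card _
    have h2 := Subgroup.card_dvd_of_le hB
    rw [Subgroup.card_map_of_injective (cent c).subtype_injective, hA13] at h2
    rw [hn] at h1 h2 ⊢
    have hn2 : n < 2 := by
      by_contra hc
      have h169 : (13 : ℕ) ^ 2 ∣ 5616 := (pow_dvd_pow 13 (by omega)).trans h1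
      norm_num at h169
    interval_cases n <;> norm_num at *
  have hAB : (A : Subgroup (cent c)).map (cent c).subtype = B :=
    Subgroup.eq_of_le_of_card_ge hB (by
      rw [hB13, Subgroup.card_map_of_injective (cent c).subtype_injective, hA13])
  set N := Subgroup.normalizer ((A : Subgroup (cent c)) : Set (cent c)) with hN
  set M := Subgroup.normalizer ((B : Subgroup G) : Set G) with hM
  have hNM : N.map (cent c).subtype ≤ M :=
    (Subgroup.le_normalizer_map (H := (A : Subgroup (cent c))) (cent c).subtype).trans (by rw [hAB])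
  have hM' : Nat.card (Sylow 13 G) * Nat.card M = 5616 := by
    rw [Sylow.card_eq_index_normalizer B, mul_comm, ← S.hcard]
    exact M.card_mul_index
  have hn1 : Nat.card (Sylow 13 G) ≠ 1 := by
    intro h
    rw [Sylow.card_eq_index_normalizer B, Subgroup.index_eq_one] at h
    rcases (Subgroup.normalizer_eq_top_iff.mp h).eq_bot_or_eq_top with h' | h' <;>
      rw [h'] at hB13 <;> simp [S.hcard] at hB13
  have hmod : Nat.card (Sylow 13 G) % 13 = 1 := card_sylow_modEq_one 13 G
  have hNM' : Nat.card N ∣ Nat.card M := by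
    rw [← Subgroup.card_map_of_injective (cent c).subtype_injective (K := N)]
    exact Subgroup.card_dvd_of_le hNM
  have h39 : 39 ∣ Nat.card N := by
    have h1 : 13 ∣ Nat.card N := hA13 ▸ Subgroup.card_dvd_of_le Subgroup.le_normalizer
    have h2 : orderOf (⟨c, S.c_mem⟩ : cent c) ∣ Nat.card N := Subgroup.orderOf_dvd_natCard _ <| by
      refine Subgroup.mem_normalizer_iff.mpr fun h => ?_
      rw [show (⟨c, S.c_mem⟩ : cent c) * h * (⟨c, S.c_mem⟩ : cent c)⁻¹ = h from Subtype.ext
        (mul_inv_eq_iff_eq_mul.mpr (mem_cent.mp h.2).symm)]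
    rw [Subgroup.orderOf_mk, S.orderOf_c] at h2
    exact Nat.Coprime.mul_dvd_of_dvd_of_dvd (m := 3) (n := 13) (by norm_num) h2 h1
  have hC : Nat.card (Sylow 13 (cent c)) * Nat.card N = Nat.card (cent c) := by
    rw [Sylow.card_eq_index_normalizer A, mul_comm]
    exact N.card_mul_index
  have hmodC : Nat.card (Sylow 13 (cent c)) % 13 = 1 := card_sylow_modEq_one 13 (cent c)
  have h702 : Nat.card (cent c) ∣ 5616 := S.hcard ▸ Subgroup.card_subgroup_dvd_card _
  have h6 := S.two_dvd
  have h4 := S.four_not_dvd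
  generalize Nat.card (Sylow 13 G) = m at *
  generalize Nat.card (Sylow 13 (cent c)) = k at *
  generalize Nat.card N = n at *
  generalize Nat.card M = q at *
  obtain ⟨r, rfl⟩ := h39
  have hm : m ∣ 432 := by
    have h13q : 13 ∣ q := (dvd_mul_of_dvd_left (by norm_num : 13 ∣ 39) r).trans hNM'
    obtain ⟨q', rfl⟩ := h13q
    exact ⟨q', by linarith⟩
  have hm' : m = 27 ∨ m = 144 := by
    have key : ∀ m < 433, m ∣ 432 → m % 13 = 1 → m ≠ 1 → m = 27 ∨ m = 144 := by decide +kernel
    exact key m (Nat.lt_succ_of_le (Nat.le_of_dvd (by norm_num) hm)) hm hmod hn1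
  rcases hm' with rfl | rfl
  · have : q = 208 := by omega
    subst this
    have : (3 : ℕ) ∣ 208 := (dvd_mul_of_dvd_left (by norm_num : 3 ∣ 39) r).trans hNM'
    norm_num at this
  · have : q = 39 := by omega
    subst this
    obtain rfl : r = 1 := by
      have := Nat.le_of_dvd (by norm_num) hNM'
      have : r ≠ 0 := fun h => by subst h; simp at hNM'
      omega
    have hk : k ∣ 144 := by
      rw [← hC] at h702
      exact Nat.dvd_of_mul_dvd_mul_right (show 0 < 39 * 1 by norm_num) h702
    have key : ∀ k < 145, k ∣ 144 → k % 13 = 1 → ¬ 4 ∣ k → 2 ∣ k → False := by decide +kernel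
    refine key k (Nat.lt_succ_of_le (Nat.le_of_dvd (by norm_num) hk)) hk hmodC ?_ ?_
    · exact fun h => h4 (hC ▸ dvd_mul_of_dvd_left h _)
    · have : 2 ∣ k * 39 := by rw [show k * 39 = k * (39 * 1) by ring, hC]; exact (by norm_num : 2 ∣ 6).trans h6
      omega

theorem Setup.card_cent_cases : Nat.card (cent c) = 6 ∨ Nat.card (cent c) = 18 ∨ Nat.card (cent c) = 54 := by
  have h1 : Nat.card (cent c) ∣ 16 * 27 * 13 := by
    rw [show 16 * 27 * 13 = 5616 by norm_num, ← S.hcard]
    exact Subgroup.card_subgroup_dvd_card _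
  have h2 : Nat.card (cent c) ∣ 16 * 27 :=
    ((Nat.Coprime.symm ((show Nat.Prime 13 by norm_num).coprime_iff_not_dvd.mpr S.thirteen_not_dvd)).dvd_of_dvd_mul_right h1)
  have h6 := S.two_dvd
  have h4 := S.four_not_dvd
  have key : ∀ n < 433, n ∣ 432 → 6 ∣ n → ¬ 4 ∣ n → n = 6 ∨ n = 18 ∨ n = 54 := by decide +kernel
  exact key _ (Nat.lt_succ_of_le (Nat.le_of_dvd (by norm_num) h2)) h2 h6 h4

theorem Setup.exists_sylow_three : ∃ P : Subgroup G, Nat.card P = 27 ∧ c ∈ P ∧ IsPGroup 3 P := by
  haveI := Fact.mk Nat.prime_three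
  obtain ⟨P, hP⟩ := (IsPGroup.of_card (p := 3) (n := 1)
    (show Nat.card (Subgroup.zpowers c) = 3 ^ 1 by rw [Nat.card_zpowers, S.orderOf_c, pow_one])).exists_le_sylow
  refine ⟨P, ?_, hP (Subgroup.mem_zpowers _), P.isPGroup'⟩
  obtain ⟨n, hn⟩ := P.isPGroup'.exists_card_eq
  have h1 : 3 ^ 3 ∣ Nat.card (P : Subgroup G) := P.pow_dvd_card_of_pow_dvd_card (by rw [S.hcard]; norm_num)
  have h2 : Nat.card (P : Subgroup G) ∣ 5616 := S.hcard ▸ Subgroup.card_subgroup_dvd_card _
  rw [hn] at h1 h2 ⊢
  have h3 : 3 ≤ n := (Nat.pow_dvd_pow_iff_le_right (by norm_num)).mp h1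
  have h4 : n < 4 := by
    by_contra hc
    have h81 : (3 : ℕ) ^ 4 ∣ 5616 := (pow_dvd_pow 3 (by omega)).trans h2
    norm_num at h81
  obtain rfl : n = 3 := by omega
  norm_num

/-- The elements of three-power order of a group with a subgroup of index two. -/
theorem Setup.mem_of_index_two {C O : Subgroup G} (hle : O ≤ C)
    (h : Nat.card C = 2 * Nat.card O) {x : G} (hx : x ∈ C) (h27 : x ^ 27 = 1) : x ∈ O := by
  have hi : (O.subgroupOf C).index = 2 := by
    have h1 := (O.subgroupOf C).card_mul_index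
    rw [Nat.card_congr (Subgroup.subgroupOfEquivOfLe hle).toEquiv, h, mul_comm 2] at h1
    exact Nat.eq_of_mul_eq_mul_left Nat.card_pos h1
  have h2 := Subgroup.mem_subgroupOf.mp (Subgroup.sq_mem_of_index_two hi ⟨x, hx⟩)
  have h28 : (x ^ 2) ^ 14 = x := by
    rw [← pow_mul, show 2 * 14 = 27 + 1 from rfl, pow_succ, h27, one_mul]
  rw [← h28]
  exact pow_mem h2 14

theorem Setup.pow_27 {P : Subgroup G} (hP : Nat.card P = 27) {x : G} (hx : x ∈ P) : x ^ 27 = 1 :=
  orderOf_dvd_iff_pow_eq_one.mp (hP ▸ Subgroup.orderOf_dvd_natCard _ hx)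

theorem Setup.card_cent_c : Nat.card (cent c) = 54 := by
  haveI := Fact.mk Nat.prime_three
  obtain ⟨P, hP, hcP, hp⟩ := S.exists_sylow_three
  have hco := S.orderOf_c
  haveI : Nontrivial P := by rw [← Finite.one_lt_card_iff_nontrivial, hP]; norm_num
  haveI := hp.center_nontrivial
  obtain ⟨z, hz⟩ := exists_prime_orderOf_dvd_card' 3
    (show 3 ∣ Nat.card (Subgroup.center P) from
      ((hp.to_subgroup _).nontrivial_iff_card.mp inferInstance).elim fun n hn =>
        hn.2 ▸ dvd_pow_self 3 hn.1.ne')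
  set a : G := ((z : P) : G) with ha
  have haP : a ∈ P := (z : P).2
  have hao : orderOf a = 3 := by rw [ha, Subgroup.orderOf_coe, Subgroup.orderOf_coe, hz]
  have hac : ∀ x ∈ P, x * a = a * x := fun x hx =>
    congrArg Subtype.val (Subgroup.mem_center_iff.mp z.2 ⟨x, hx⟩)
  have hPa : P ≤ cent a := fun x hx => mem_cent.mpr (hac x hx)
  have h27a : 27 ∣ Nat.card (cent a) := hP ▸ Subgroup.card_dvd_of_le hPa
  rcases S.card_cent_cases with h | h | h
  · -- six is too small
    exfalso
    have hle : P ⊓ cent c ≤ cent c := inf_le_right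
    have hca : a ∈ P ⊓ cent c := ⟨haP, mem_cent.mpr (hac c hcP).symm⟩
    have hd : Nat.card ↥(P ⊓ cent c) ∣ 3 := by
      have h1 := Subgroup.card_dvd_of_le hle
      rw [h] at h1
      have h2 : Nat.card ↥(P ⊓ cent c) ∣ 27 := hP ▸ Subgroup.card_dvd_of_le inf_le_left
      exact Nat.dvd_gcd h1 h2
    have heq : Subgroup.zpowers c = P ⊓ cent c :=
      Subgroup.eq_of_le_of_card_ge (Subgroup.zpowers_le.mpr ⟨hcP, S.c_mem⟩)
        (by rw [Nat.card_zpowers, hco]; exact Nat.le_of_dvd (by norm_num) hd)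
    have hPc : P ≤ cent c := by
      intro x hx
      rcases mem_zpowers_three hco (heq ▸ hca) with h1 | h1 | h1
      · rw [h1, orderOf_one] at hao; norm_num at hao
      · exact mem_cent.mpr (h1 ▸ hac x hx)
      · exact mem_cent.mpr ((show Commute x c from inv_inv c ▸ (show Commute x (c⁻¹) from h1 ▸ hac x hx).inv_right).eq)
    have := hP ▸ Subgroup.card_dvd_of_le hPc
    rw [h] at this; norm_num at this
  swap
  · exact h
  exfalso
  have hnot : ∀ x : G, IsConj c x → ¬ 27 ∣ Nat.card (cent x) := fun x hx hd => by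
    rw [← card_cent_of_isConj hx, h] at hd; norm_num at hd
  have hnz : a ∉ Subgroup.zpowers c := fun hm => by
    have hPc : P ≤ cent c := by
      intro x hx
      rcases mem_zpowers_three hco hm with h1 | h1 | h1
      · rw [h1, orderOf_one] at hao; norm_num at hao
      · exact mem_cent.mpr (h1 ▸ hac x hx)
      · exact mem_cent.mpr ((show Commute x c from inv_inv c ▸ (show Commute x (c⁻¹) from h1 ▸ hac x hx).inv_right).eq)
    exact hnot c (IsConj.refl _) (hP ▸ Subgroup.card_dvd_of_le hPc)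
  set O := P ⊓ cent c with hO
  have hcO : c ∈ O := ⟨hcP, S.c_mem⟩
  have haO : a ∈ O := ⟨haP, mem_cent.mpr (hac c hcP).symm⟩
  have hcomm : c * a = a * c := hac c hcP
  -- the nine products
  let f : Fin 3 × Fin 3 → O := fun q => ⟨c ^ q.1.val * a ^ q.2.val, mul_mem (pow_mem hcO _) (pow_mem haO _)⟩
  have hinj : Function.Injective f := fun q q' he =>
    prod_injective hco hao hnz (congrArg Subtype.val he)
  have h9 : Nat.card O = 9 := by
    have h1 : Nat.card O ∣ 9 := by
      have h1 := Subgroup.card_dvd_of_le (inf_le_right : O ≤ cent c)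
      rw [h] at h1
      have h2 : Nat.card O ∣ 27 := hP ▸ Subgroup.card_dvd_of_le inf_le_left
      exact Nat.dvd_gcd h1 h2
    have h2 := Nat.card_le_card_of_injective f hinj
    simp at h2
    exact le_antisymm (Nat.le_of_dvd (by norm_num) h1) h2
  have hsurj : ∀ x ∈ O, ∃ i j : Fin 3, x = c ^ i.val * a ^ j.val := fun x hx => by
    obtain ⟨⟨i, j⟩, hq⟩ := ((Nat.bijective_iff_injective_and_card f).mpr ⟨hinj, by simp [h9]⟩).2 ⟨x, hx⟩
    exact ⟨i, j, (congrArg Subtype.val hq).symm⟩
  have hOC : ∀ x, x ∈ cent c → x ^ 27 = 1 → x ∈ O := fun x =>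
    S.mem_of_index_two inf_le_right (by rw [h, h9])
  have hta : t * a * t ∈ cent c := mul_mem (mul_mem S.t_mem haO.2) S.t_mem
  have htinv : t⁻¹ = t := inv_eq_of_mul_eq_one_right S.t_sq
  have hsinv : s⁻¹ = s := inv_eq_of_mul_eq_one_right S.s_sq
  have hb : t * a * t ∈ O := hOC _ hta (by
    rw [show t * a * t = t * a * t⁻¹ by rw [htinv], conj_pow, S.pow_27 hP haP, mul_one, mul_inv_cancel])
  obtain ⟨i, j, hij⟩ := hsurj _ hb
  have hbconj : IsConj a (t * a * t) := isConj_iff.mpr ⟨t, by rw [htinv]⟩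
  by_cases hi : i.val = 0
  · rw [hi, pow_zero, one_mul] at hij
    -- `a` is fixed or inverted by `t`
    have hj : j.val = 1 ∨ j.val = 2 := by
      have := j.isLt
      rcases Nat.eq_zero_or_pos j.val with h0 | h0
      · rw [h0, pow_zero] at hij
        rw [hij] at hbconj
        have := isConj_one_right.mp hbconj.symm
        rw [this, orderOf_one] at hao; norm_num at hao
      · omega
    rcases hj with hj | hj
    · rw [hj, pow_one] at hij
      refine hnot a (S.isConj_c hao K.orderOf_neg ?_) h27a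
      calc a * t = t * a * t * t := by rw [hij]
        _ = t * a := by rw [mul_assoc, S.t_sq, mul_one]
    · rw [hj] at hij
      have hinvt : t * a * t = a⁻¹ := by
        rw [hij, eq_inv_iff_mul_eq_one, ← pow_succ]
        exact pow_three hao
      have hsa : s * a * s ∈ O := by
        refine hOC _ (mem_cent.mpr ?_) (by
          rw [show s * a * s = s * a * s⁻¹ by rw [hsinv], conj_pow, S.pow_27 hP haP, mul_one, mul_inv_cancel])
        have hci : s * c⁻¹ * s = c := by
          have := congrArg (fun x => x⁻¹) S.s_conj_c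
          simpa [mul_inv_rev, hsinv, mul_assoc] using this
        calc s * a * s * c = s * (a * (s * c * s)) * s := by
              simp only [mul_assoc, S.s_sq, mul_one]
          _ = s * (c⁻¹ * a) * s := by
              rw [S.s_conj_c, ((show Commute c a from hcomm).inv_left).eq]
          _ = s * c⁻¹ * (s * s) * a * s := by rw [S.s_sq]; group
          _ = s * c⁻¹ * s * (s * a * s) := by simp only [mul_assoc]
          _ = c * (s * a * s) := by rw [hci]
      obtain ⟨k, l, hkl⟩ := hsurj _ hsa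
      have htc : t * c * t = c := by rw [S.t_comm_c, mul_assoc, S.t_sq, mul_one]
      have h1 : t * (s * a * s) * t = c ^ k.val * (a⁻¹) ^ l.val := by
        rw [hkl, ← hinvt]
        conv_rhs => rw [show t * a * t = t * a * t⁻¹ by rw [htinv], conj_pow]
        calc t * (c ^ k.val * a ^ l.val) * t = (t * c * t⁻¹) ^ k.val * (t * a ^ l.val * t⁻¹) := by
              rw [conj_pow, htinv]
              calc t * (c ^ k.val * a ^ l.val) * t = t * c ^ k.val * (t * t) * a ^ l.val * t := by
                    rw [S.t_sq]; group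
                _ = _ := by simp only [mul_assoc]
          _ = _ := by rw [htinv, htc]
      have h2 : t * (s * a * s) * t = (s * a * s)⁻¹ := by
        calc t * (s * a * s) * t = t * s * a * (s * t) := by simp only [mul_assoc]
          _ = s * t * a * (t * s) := by rw [S.t_comm_s]
          _ = s * (t * a * t) * s := by simp only [mul_assoc]
          _ = s⁻¹ * a⁻¹ * s⁻¹ := by rw [hinvt, hsinv]
          _ = (s * a * s)⁻¹ := by group
      have hcm : Commute (c ^ k.val) (a ^ l.val)⁻¹ :=
        ((show Commute c a from hcomm).pow_pow k.val l.val).inv_right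
      rw [h1, hkl, mul_inv_rev, inv_pow, hcm.eq] at h2
      have hk : k.val = 0 := by
        have h3 := mul_left_cancel h2
        rw [eq_inv_iff_mul_eq_one, ← pow_add] at h3
        have := orderOf_dvd_of_pow_eq_one h3
        rw [hco] at this
        omega
      rw [hk, pow_zero, one_mul] at hkl
      have : l.val = 1 ∨ l.val = 2 := by
        have := l.isLt
        rcases Nat.eq_zero_or_pos l.val with h0 | h0
        · rw [h0, pow_zero] at hkl
          have ha1 : a = 1 := by
            calc a = s * (s * a * s) * s := by simp only [← mul_assoc, S.s_sq, one_mul]; rw [mul_assoc, S.s_sq, mul_one]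
              _ = 1 := by rw [hkl, mul_one, S.s_sq]
          rw [ha1, orderOf_one] at hao; norm_num at hao
        · omega
      rcases this with hl | hl
      · rw [hl, pow_one] at hkl
        refine hnot a (S.isConj_c hao S.orderOf_s ?_) h27a
        calc a * s = s * a * s * s := by rw [hkl]
          _ = s * a := by rw [mul_assoc, S.s_sq, mul_one]
      · rw [hl] at hkl
        refine hnot a (S.isConj_c hao S.orderOf_ts ?_) h27a
        have h1 : t * s * a * (t * s) = a := by
          calc t * s * a * (t * s) = t * s * a * (s * t) := by rw [← S.t_comm_s]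
            _ = t * (s * a * s) * t := by simp only [mul_assoc]
            _ = t * (a * a) * t := by rw [hkl, pow_two]
            _ = (t * a * t) * (t * a * t) := by
                calc t * (a * a) * t = t * a * (t * t) * a * t := by rw [S.t_sq]; group
                  _ = _ := by simp only [mul_assoc]
            _ = a⁻¹ * a⁻¹ := by rw [hinvt]
            _ = a := by
                have h3 : a ^ 3 = 1 := pow_three hao
                rw [← mul_inv_rev, inv_eq_iff_mul_eq_one]
                rw [← h3, pow_succ, pow_two]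
        have hts2 : t * s * (t * s) = 1 := by rw [← pow_two, ← S.orderOf_ts, pow_orderOf_eq_one]
        calc a * (t * s) = t * s * a * (t * s) * (t * s) := by rw [h1]
          _ = t * s * a := by rw [mul_assoc, hts2, mul_one]
  · -- `b` is conjugate to a power of `c`
    have hne : ∃ x ∈ P, x * c ≠ c * x := by
      by_contra hall
      push Not at hall
      exact hnot c (IsConj.refl _) (hP ▸ Subgroup.card_dvd_of_le fun x hx => mem_cent.mpr (hall x hx))
    have hne' : ∃ x ∈ P, x * c ^ i.val ≠ c ^ i.val * x := by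
      obtain ⟨x, hx, hxc⟩ := hne
      refine ⟨x, hx, fun he => hxc ?_⟩
      have hi2 : i.val = 1 ∨ i.val = 2 := by have := i.isLt; omega
      rcases hi2 with hi2 | hi2
      · rwa [hi2, pow_one] at he
      · have hc4 : c = (c ^ 2) ^ 2 := by
          rw [← pow_mul, show 2 * 2 = 3 + 1 from rfl, pow_succ, pow_three hco, one_mul]
        rw [hc4, ← hi2]
        exact ((show Commute x (c ^ i.val) from he).pow_right _).eq
    obtain ⟨p, hp', hpe⟩ := exists_conj_mul hP haP hao hac (pow_mem hcP i.val) hne'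
      (Subgroup.npow_mem_zpowers a j.val)
    rw [← hij] at hpe
    have h1 : Nat.card (cent (c ^ i.val)) = Nat.card (cent c) := by
      have hi2 : i.val = 1 ∨ i.val = 2 := by have := i.isLt; omega
      rcases hi2 with hi2 | hi2
      · rw [hi2, pow_one]
      · have hc4 : c = (c ^ 2) ^ 2 := by
          rw [← pow_mul, show 2 * 2 = 3 + 1 from rfl, pow_succ, pow_three hco, one_mul]
        rw [hi2]
        refine congrArg (fun X : Subgroup G => Nat.card X) (le_antisymm (fun x hx => ?_) fun x hx => ?_)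
        · rw [mem_cent, hc4]; exact ((show Commute x (c ^ 2) from mem_cent.mp hx).pow_right 2).eq
        · exact mem_cent.mpr ((show Commute x c from mem_cent.mp hx).pow_right 2).eq
    rw [card_cent_of_isConj hbconj, ← card_cent_of_isConj (isConj_iff.mpr ⟨p, hpe⟩), h1, h] at h27a
    norm_num at h27a

end CfsgLib.GLTwoThreeRecog
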