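import Cfsg.Agent.Lib.GLTwoThreeRecog.LocalNorm
import Cfsg.Agent.Lib.GLTwoThreeRecog.DiffSet
import Cfsg.Agent.Lib.CommGraph.PSLThreeThreeGraph

/-!
# The action on the thirteen points and thirteen lines
-/

set_option autoImplicit false
set_option linter.unusedSectionVars false
set_option linter.style.haveILetI false

namespace CfsgLib.GLTwoThreeRecog

open Cfsg CfsgLib.GLTwoThreeCent CfsgLib.CommGraph

variable {G : Type*} [Group G] [Finite G]

/-- The powers of an element of order thirteen, indexed by residues. -/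
def pw (a : G) (i : ZMod 13) : G := a ^ i.val

theorem pw_add {a : G} (ha : orderOf a = 13) (i j : ZMod 13) : pw a (i + j) = pw a i * pw a j := by
  rw [pw, pw, pw, ← pow_add, ZMod.val_add]
  conv_rhs => rw [← pow_mod_orderOf, ha]

theorem pw_zero (a : G) : pw a 0 = 1 := by rw [pw, ZMod.val_zero, pow_zero]

theorem pw_neg {a : G} (ha : orderOf a = 13) (i : ZMod 13) : pw a (-i) = (pw a i)⁻¹ :=
  eq_inv_of_mul_eq_one_left (by rw [← pw_add ha, neg_add_cancel, pw_zero])

theorem pw_bijective {a : G} (ha : orderOf a = 13) (hG : Nat.card G = 5616) {M : Subgroup G}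
    (hM : Nat.card M = 432) : Function.Bijective fun i : ZMod 13 => (QuotientGroup.mk (pw a i) : G ⧸ M) := by
  have hi : M.index = 13 := by
    have := M.card_mul_index
    rw [hM, hG] at this; omega
  refine (Nat.bijective_iff_injective_and_card _).mpr ⟨fun i j h => ?_, by
    rw [← Subgroup.index_eq_card, hi, Nat.card_zmod]⟩
  have hm : (pw a i)⁻¹ * pw a j ∈ M := QuotientGroup.eq.mp h
  rw [← pw_neg ha, ← pw_add ha] at hm
  have h1 : orderOf (pw a (-i + j)) ∣ 432 := hM ▸ Subgroup.orderOf_dvd_natCard _ hm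
  have h2 : orderOf (pw a (-i + j)) ∣ 13 := (orderOf_pow_dvd (x := a) _).trans ha.dvd
  have h3 : pw a (-i + j) = 1 := orderOf_eq_one_iff.mp (Nat.dvd_one.mp
    (show orderOf (pw a (-i + j)) ∣ 1 from (by norm_num : Nat.gcd 432 13 = 1) ▸ Nat.dvd_gcd h1 h2))
  rw [pw] at h3
  have h4 : 13 ∣ (-i + j).val := ha.symm.dvd.trans (orderOf_dvd_of_pow_eq_one h3)
  have h5 := ZMod.val_lt (-i + j)
  have h6 : -i + j = 0 := (ZMod.val_eq_zero _).mp (Nat.eq_zero_of_dvd_of_lt h4 h5)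
  exact (neg_add_eq_zero.mp h6)

variable {t : G} {K : Coord t} {P : Subgroup G} (A : Axis K P)

/-- The stabiliser of the base point. -/
abbrev stP : Subgroup G := Subgroup.normalizer ((ew A (elS K) : Subgroup G) : Set G)

/-- The stabiliser of the base line. -/
abbrev stL : Subgroup G := Subgroup.normalizer ((ew A (t * elS K) : Subgroup G) : Set G)

/-- Incidence of a point coset and a line coset. -/
def Rel (x : G ⧸ stP A) (y : G ⧸ stL A) : Prop :=
  ∃ g : G, ∃ m ∈ stL A, x = (↑(g * m) : G ⧸ stP A) ∧ y = (↑g : G ⧸ stL A)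

theorem rel_smul (h : G) (x : G ⧸ stP A) (y : G ⧸ stL A) : Rel A (h • x) (h • y) ↔ Rel A x y := by
  have key : ∀ (h : G) x y, Rel A x y → Rel A (h • x) (h • y) := by
    rintro h _ _ ⟨g, m, hm, rfl, rfl⟩
    exact ⟨h * g, m, hm, by rw [MulAction.Quotient.smul_coe, smul_eq_mul, mul_assoc],
      by rw [MulAction.Quotient.smul_coe, smul_eq_mul]⟩
  exact ⟨fun H => by simpa using key h⁻¹ _ _ H, key h x y⟩

theorem rel_base (x : G ⧸ stP A) :
    Rel A x ((1 : G) : G ⧸ stL A) ↔ ∃ m ∈ stL A, x = (↑m : G ⧸ stP A) := by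
  constructor
  · rintro ⟨g, m, hm, rfl, hg⟩
    have : (1 : G)⁻¹ * g ∈ stL A := QuotientGroup.eq.mp hg
    rw [inv_one, one_mul] at this
    exact ⟨g * m, mul_mem this hm, rfl⟩
  · rintro ⟨m, hm, rfl⟩
    exact ⟨1, m, hm, by rw [one_mul], rfl⟩

variable (S : Setup K)
include S A

theorem Setup.inf_eq : stP A ⊓ stL A = nc K :=
  le_antisymm (S.inf_norm_le A (S.flip_s A))
    (le_inf (S.nc_le_norm A (S.flip_s A)) (S.nc_le_norm A (S.flip_mul A (S.flip_s A))))

theorem Setup.card_line :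
    Nat.card {x : G ⧸ stP A // Rel A x ((1 : G) : G ⧸ stL A)} = 4 := by
  set Q := (stP A).subgroupOf (stL A) with hQ
  have hc : Nat.card Q = 108 := by
    have h1 : Nat.card Q = Nat.card ↥(stP A ⊓ stL A) := by
      rw [hQ, ← Subgroup.inf_subgroupOf_right]
      exact Nat.card_congr (Subgroup.subgroupOfEquivOfLe inf_le_right).toEquiv
    rw [h1, S.inf_eq A, S.card_nc]
  have hi : Nat.card (stL A ⧸ Q) = 4 := by
    have := Subgroup.card_eq_card_quotient_mul_card_subgroup Q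
    rw [hc, S.card_norm A (S.flip_mul A (S.flip_s A))] at this
    omega
  rw [← hi]
  refine (Nat.card_congr (Equiv.ofBijective (Quotient.lift
    (fun m : stL A => (⟨((m : G) : G ⧸ stP A), (rel_base A _).mpr ⟨m, m.2, rfl⟩⟩ :
      {x : G ⧸ stP A // Rel A x ((1 : G) : G ⧸ stL A)})) ?_) ⟨?_, ?_⟩)).symm
  · intro a b hab
    exact Subtype.ext (QuotientGroup.eq.mpr
      ((QuotientGroup.leftRel_apply (s := Q) (x := a) (y := b)).mp hab))
  · intro a b
    induction a using QuotientGroup.induction_on with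
    | H a =>
      induction b using QuotientGroup.induction_on with
      | H b =>
        intro h
        have h' : ((a : G) : G ⧸ stP A) = ((b : G) : G ⧸ stP A) := congrArg Subtype.val h
        exact QuotientGroup.eq.mpr (Subgroup.mem_subgroupOf.mpr (QuotientGroup.eq.mp h'))
  · rintro ⟨x, hx⟩
    obtain ⟨m, hm, rfl⟩ := (rel_base A x).mp hx
    exact ⟨QuotientGroup.mk ⟨m, hm⟩, rfl⟩

theorem Setup.pairs_transitive {x x' u u' : G ⧸ stP A} (hx : Rel A x ((1 : G) : G ⧸ stL A))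
    (hx' : Rel A x' ((1 : G) : G ⧸ stL A)) (hu : Rel A u ((1 : G) : G ⧸ stL A))
    (hu' : Rel A u' ((1 : G) : G ⧸ stL A)) (hne : x ≠ x') (hne' : u ≠ u') :
    ∃ g ∈ stL A, g • x = u ∧ g • x' = u' := by
  obtain ⟨m, hm, rfl⟩ := (rel_base A _).mp hx
  obtain ⟨m', hm', rfl⟩ := (rel_base A _).mp hx'
  obtain ⟨n, hn, rfl⟩ := (rel_base A _).mp hu
  obtain ⟨n', hn', rfl⟩ := (rel_base A _).mp hu'
  have hF := S.flip_mul A (S.flip_s A)
  have hncP := S.nc_le_norm A (S.flip_s A)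
  have h1 : m⁻¹ * m' ∉ nc K := fun h => hne (QuotientGroup.eq.mpr (hncP h))
  have h2 : n⁻¹ * n' ∉ nc K := fun h => hne' (QuotientGroup.eq.mpr (hncP h))
  obtain ⟨p, hp, hpn⟩ := S.two_transitive A hF (mul_mem (inv_mem hm) hm') (mul_mem (inv_mem hn) hn') h1 h2
  have hpc : p ∈ nc K := S.cent_le_nc (A.le hp)
  refine ⟨n * p * m⁻¹, mul_mem (mul_mem hn (S.nc_le_norm A hF hpc)) (inv_mem hm), ?_, ?_⟩
  · rw [MulAction.Quotient.smul_coe, smul_eq_mul, inv_mul_cancel_right]
    refine QuotientGroup.eq.mpr ?_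
    rw [mul_inv_rev, inv_mul_cancel_right]
    exact inv_mem (hncP hpc)
  · rw [MulAction.Quotient.smul_coe, smul_eq_mul]
    refine (QuotientGroup.eq.mpr ?_).symm
    have := hncP hpn
    rwa [show (n⁻¹ * n')⁻¹ * p * (m⁻¹ * m') = n'⁻¹ * (n * p * m⁻¹ * m') by group] at this

/-- **The group is the collineation group of the plane of order three.** -/
theorem Setup.iso_psl : Nonempty (G ≃* Matrix.ProjectiveSpecialLinearGroup (Fin 3) (ZMod 3)) := by
  classical
  haveI := S.simple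
  haveI := Fact.mk (show Nat.Prime 13 by norm_num)
  obtain ⟨a, ha⟩ := exists_prime_orderOf_dvd_card' (G := G) 13 (by rw [S.hcard]; norm_num)
  have hP : Nat.card (stP A) = 432 := S.card_norm A (S.flip_s A)
  have hL : Nat.card (stL A) = 432 := S.card_norm A (S.flip_mul A (S.flip_s A))
  let φ := Equiv.ofBijective _ (pw_bijective ha S.hcard hP)
  let ψ := Equiv.ofBijective _ (pw_bijective ha S.hcard hL)
  have hφ : ∀ i, φ i = (QuotientGroup.mk (pw a i) : G ⧸ stP A) := fun _ => rfl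
  have hψ : ∀ i, ψ i = (QuotientGroup.mk (pw a i) : G ⧸ stL A) := fun _ => rfl
  set D := Finset.univ.filter fun i => Rel A (φ i) (ψ 0) with hD
  have hψ0 : ψ 0 = ((1 : G) : G ⧸ stL A) := by rw [hψ, pw_zero]
  have hmem : ∀ i, i ∈ D ↔ Rel A (φ i) (ψ 0) := fun i => by simp [hD]
  have hrel : ∀ i j, Rel A (φ i) (ψ j) ↔ i - j ∈ D := by
    intro i j
    rw [hmem, ← rel_smul A (pw a j) (φ (i - j)) (ψ 0), hφ, hφ, hψ, hψ, MulAction.Quotient.smul_coe,
      MulAction.Quotient.smul_coe, smul_eq_mul, smul_eq_mul, ← pw_add ha, ← pw_add ha, add_sub_cancel,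
      add_zero]
  have hcardD : D.card = 4 := by
    rw [← Fintype.card_coe, ← Nat.card_eq_fintype_card, ← S.card_line A, ← hψ0]
    exact Nat.card_congr (φ.subtypeEquiv fun i => hmem i)
  have h0 : (0 : ZMod 13) ∈ D := by
    rw [hmem, hφ, hψ0, pw_zero]
    exact (rel_base A _).mpr ⟨1, one_mem _, rfl⟩
  have hcnt : ∀ δ, cnt D δ = Nat.card {y : G ⧸ stL A // Rel A (φ 0) y ∧ Rel A (φ δ) y} := by
    intro δ
    rw [cnt, ← Fintype.card_coe, ← Nat.card_eq_fintype_card]
    refine Nat.card_congr (((Equiv.neg (ZMod 13)).trans ψ).subtypeEquiv fun i => ?_)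
    show i ∈ D.filter _ ↔ Rel A (φ 0) (ψ (-i)) ∧ Rel A (φ δ) (ψ (-i))
    rw [Finset.mem_filter, hrel, hrel, sub_neg_eq_add, sub_neg_eq_add, zero_add, add_comm δ]
  have huni : ∀ δ ∈ D, δ ≠ 0 → ∀ δ' : ZMod 13, δ' ≠ 0 → cnt D δ' = 0 ∨ cnt D δ' = cnt D δ := by
    intro δ hδ hδ0 δ' hδ'
    refine or_iff_not_imp_left.mpr fun hne => ?_
    obtain ⟨i, hi⟩ := Finset.card_pos.mp (Nat.pos_of_ne_zero hne)
    obtain ⟨hi1, hi2⟩ := Finset.mem_filter.mp hi
    have hinj : ∀ {i j}, i ≠ j → φ i ≠ φ j := fun h e => h (φ.injective e)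
    obtain ⟨g, -, hg1, hg2⟩ := S.pairs_transitive A (hψ0 ▸ (hmem _).mp h0) (hψ0 ▸ (hmem _).mp hδ)
      (hψ0 ▸ (hmem _).mp hi1) (hψ0 ▸ (hmem _).mp hi2) (hinj (Ne.symm hδ0))
      (hinj (fun e => hδ' (left_eq_add.mp e)))
    have hshift : ∀ k, pw a (-i) • φ (i + k) = φ k := fun k => by
      rw [hφ, hφ, MulAction.Quotient.smul_coe, smul_eq_mul, ← pw_add ha, neg_add_cancel_left]
    set h := pw a (-i) * g with hh
    have e1 : h • φ 0 = φ 0 := by rw [hh, mul_smul, hg1]; simpa using hshift 0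
    have e2 : h • φ δ = φ δ' := by rw [hh, mul_smul, hg2, hshift]
    rw [hcnt, hcnt]
    refine (Nat.card_congr ((MulAction.toPerm h).subtypeEquiv fun y => ?_)).symm
    show _ ↔ Rel A (φ 0) (h • y) ∧ Rel A (φ δ') (h • y)
    conv_rhs => rw [← e1, ← e2, rel_smul, rel_smul]
  obtain ⟨k, r, hk, hkr⟩ := diff_set D (Finset.mem_powersetCard.mpr ⟨Finset.subset_univ _, hcardD⟩) h0 huni
  -- the coordinates
  let aff : ZMod 13 ≃ ZMod 13 := (Equiv.mulLeft₀ k hk).trans (Equiv.addRight r)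
  let eO : Obj ≃ (G ⧸ stP A) ⊕ (G ⧸ stL A) := Equiv.sumCongr
    ((Equiv.ofBijective fP fP_bij).symm.trans (aff.trans φ))
    ((Equiv.ofBijective fL fL_bij).symm.trans ((Equiv.mulLeft₀ k hk).trans ψ))
  have hinc : ∀ i j, inc i j = true ↔ ∃ x y, eO (.inl i) = .inl x ∧ eO (.inr j) = .inr y ∧ Rel A x y := by
    intro i j
    obtain ⟨i, rfl⟩ := fP_bij.2 i
    obtain ⟨j, rfl⟩ := fL_bij.2 j
    have ei : eO (.inl (fP i)) = .inl (φ (k * i + r)) := by
      simp [eO, aff, Equiv.ofBijective_symm_apply_apply]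
    have ej : eO (.inr (fL j)) = .inr (ψ (k * j)) := by
      simp [eO, Equiv.ofBijective_symm_apply_apply]
    rw [inc_iff_base, ← hkr]
    simp only [ei, ej, Sum.inl.injEq, Sum.inr.injEq, exists_and_left, exists_eq_left', hrel]
    rw [show k * (i - j) + r = k * i + r - k * j by ring]
  let θ : G →* Equiv.Perm Obj :=
    eO.symm.permCongrHom.toMonoidHom.comp
      ((Equiv.Perm.sumCongrHom (G ⧸ stP A) (G ⧸ stL A)).comp
        ((MulAction.toPermHom G (G ⧸ stP A)).prod (MulAction.toPermHom G (G ⧸ stL A))))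
  have hθl : ∀ (g : G) (i : Fin 13), ∃ i', θ g (.inl i) = .inl i' ∧
      ∀ x, eO (.inl i) = .inl x → eO (.inl i') = .inl (g • x) := by
    intro g i
    obtain ⟨x, hx⟩ : ∃ x, eO (.inl i) = .inl x := ⟨_, rfl⟩
    obtain ⟨i', hi'⟩ : ∃ i', eO (.inl i') = .inl (g • x) := by
      obtain ⟨o, ho⟩ := eO.surjective (.inl (g • x))
      rcases o with o | o
      · exact ⟨o, ho⟩
      · simp [eO] at ho
    refine ⟨i', ?_, fun x' hx' => ?_⟩
    · show eO.symm (Equiv.sumCongr (MulAction.toPerm g) (MulAction.toPerm g) (eO (.inl i))) = _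
      rw [hx, Equiv.symm_apply_eq, hi']
      rfl
    · rw [hx, Sum.inl.injEq] at hx'
      rw [hi', hx']
  have hθr : ∀ (g : G) (i : Fin 13), ∃ i', θ g (.inr i) = .inr i' ∧
      ∀ x, eO (.inr i) = .inr x → eO (.inr i') = .inr (g • x) := by
    intro g i
    obtain ⟨x, hx⟩ : ∃ x, eO (.inr i) = .inr x := ⟨_, rfl⟩
    obtain ⟨i', hi'⟩ : ∃ i', eO (.inr i') = .inr (g • x) := by
      obtain ⟨o, ho⟩ := eO.surjective (.inr (g • x))
      rcases o with o | o
      · simp [eO] at ho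
      · exact ⟨o, ho⟩
    refine ⟨i', ?_, fun x' hx' => ?_⟩
    · show eO.symm (Equiv.sumCongr (MulAction.toPerm g) (MulAction.toPerm g) (eO (.inr i))) = _
      rw [hx, Equiv.symm_apply_eq, hi']
      rfl
    · rw [hx, Sum.inr.injEq] at hx'
      rw [hi', hx']
  have hadj : ∀ g i j i' j', θ g (.inl i) = .inl i' → θ g (.inr j) = .inr j' → inc i' j' = inc i j := by
    intro g i j i' j' hi hj
    obtain ⟨i1, h1, h1'⟩ := hθl g i
    obtain ⟨j1, h2, h2'⟩ := hθr g j
    rw [h1, Sum.inl.injEq] at hi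
    rw [h2, Sum.inr.injEq] at hj
    subst hi hj
    obtain ⟨x, hx⟩ : ∃ x, eO (.inl i) = .inl x := ⟨_, rfl⟩
    obtain ⟨y, hy⟩ : ∃ y, eO (.inr j) = .inr y := ⟨_, rfl⟩
    rw [Bool.eq_iff_iff, hinc, hinc, h1' x hx, h2' y hy, hx, hy]
    simp only [Sum.inl.injEq, Sum.inr.injEq, exists_and_left, exists_eq_left', rel_smul]
  have hle : ∀ g, θ g ∈ autSub := by
    intro g
    refine ⟨fun o => ?_, fun o o' => ?_⟩
    · rcases o with i | i
      · obtain ⟨i', h, -⟩ := hθl g i; rw [h]; rfl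
      · obtain ⟨i', h, -⟩ := hθr g i; rw [h]; rfl
    · rcases o with i | i <;> rcases o' with j | j
      · obtain ⟨i', h, -⟩ := hθl g i; obtain ⟨j', h', -⟩ := hθl g j; rw [h, h']; rfl
      · obtain ⟨i', h, -⟩ := hθl g i; obtain ⟨j', h', -⟩ := hθr g j; rw [h, h']; exact hadj g i j i' j' h h'
      · obtain ⟨i', h, -⟩ := hθr g i; obtain ⟨j', h', -⟩ := hθl g j; rw [h, h']; exact hadj g j i j' i' h' h
      · obtain ⟨i', h, -⟩ := hθr g i; obtain ⟨j', h', -⟩ := hθr g j; rw [h, h']; rfl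
  let θ' : G →* autSub := θ.codRestrict autSub hle
  have hinjθ : Function.Injective θ' := by
    rw [← MonoidHom.ker_eq_bot_iff]
    refine (Subgroup.Normal.eq_bot_or_eq_top inferInstance).resolve_right fun h => ?_
    have hg : θ' a = 1 := MonoidHom.mem_ker.mp (h ▸ Subgroup.mem_top a)
    have h1 : θ a = 1 := congrArg Subtype.val hg
    obtain ⟨o, ho⟩ := eO.surjective (.inl (φ 0))
    have h2 : eO (θ a o) = eO o := by rw [h1]; rfl
    have h3 : eO (θ a o) = Equiv.sumCongr (MulAction.toPerm a) (MulAction.toPerm a) (eO o) :=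
      eO.apply_symm_apply _
    rw [h2, ho] at h3
    have h4 : φ 0 = a • φ 0 := Sum.inl_injective h3
    have hone : ((1 : ZMod 13)).val = 1 := rfl
    have h5 : φ 1 = a • φ 0 := by
      rw [hφ, hφ, MulAction.Quotient.smul_coe, smul_eq_mul, pw_zero, mul_one, pw, hone, pow_one]
    exact absurd (φ.injective (h4.trans h5.symm)) zero_ne_one
  have hcard : Nat.card autSub = 5616 := by rw [← Nat.card_congr modelEquiv.toEquiv, natCard_SL33]
  exact ⟨((MulEquiv.ofBijective θ' ((Nat.bijective_iff_injective_and_card θ').mpr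
    ⟨hinjθ, by rw [S.hcard, hcard]⟩)).trans modelEquiv.symm).trans pslEquiv.symm⟩

end CfsgLib.GLTwoThreeRecog
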