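import Cfsg.Prelude.Def_Transfer
import Cfsg.Agent.Lib.GLTwoThreeCent.Main
import Cfsg.Agent.Lib.Transfer.Thompson
import Cfsg.Agent.Lib.GLTwoThreeRecog.Facts

/-!
# Groups without a factor of order two in which an involution has centralizer `GL(2,3)` are simple
-/

set_option autoImplicit false
set_option linter.unusedSectionVars false

namespace CfsgLib.GLTwoThreeRecog

open Cfsg CfsgLib.GLTwoThreeCent

variable {G : Type*} [Group G] {t : G} (K : Coord t)
include K

/-- The model element as an element of `G`. -/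
noncomputable def el (i : Fin 48) : G := (K.E i : G)

theorem el_mul (i j : Fin 48) : el K (mulI i j) = el K i * el K j := by
  rw [el, K.mul, Subgroup.coe_mul]; rfl

theorem el_zero : el K 0 = 1 := by rw [el, K.zero, Subgroup.coe_one]

theorem el_neg : el K negI = t := K.neg

theorem el_injective : Function.Injective (el K) := fun _ _ h => K.E.injective (Subtype.ext h)

theorem el_mem (i : Fin 48) : el K i ∈ Subgroup.centralizer ({t} : Set G) := (K.E i).2

theorem exists_el {g : G} (hg : g * t = t * g) : ∃ i, el K i = g := by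
  obtain ⟨i, hi⟩ := K.E.surjective ⟨g, Subgroup.mem_centralizer_singleton_iff.mpr hg⟩
  exact ⟨i, congrArg Subtype.val hi⟩

theorem el_comm_iff (i j : Fin 48) : el K i * el K j = el K j * el K i ↔ mulI i j = mulI j i := by
  rw [← el_mul, ← el_mul, (el_injective K).eq_iff]

theorem el_commute_t (i : Fin 48) : el K i * t = t * el K i :=
  Subgroup.mem_centralizer_singleton_iff.mp (el_mem K i)

theorem orderOf_el {i : Fin 48} (hi : invol i) : orderOf (el K i) = 2 := by
  refine orderOf_eq_prime ?_ fun h => hi.2 (el_injective K (h.trans (el_zero K).symm))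
  rw [pow_two, ← el_mul, hi.1, el_zero]

theorem invol_of_orderOf {i : Fin 48} (hi : orderOf (el K i) = 2) : invol i := by
  refine ⟨el_injective K ?_, fun h => ?_⟩
  · rw [el_mul, el_zero, ← pow_two, ← hi, pow_orderOf_eq_one]
  · rw [h, el_zero, orderOf_one] at hi; norm_num at hi

theorem card_cent : Nat.card (Subgroup.centralizer ({t} : Set G)) = 48 := K.card_eq

variable [Finite G]

/-- The Sylow two-subgroups meet the centralizer in themselves. -/
theorem exists_sylow : ∃ P : Sylow 2 G, (P : Subgroup G) ≤ Subgroup.centralizer ({t} : Set G) ∧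
    Nat.card (P : Subgroup G) = 16 ∧ t ∈ (P : Subgroup G) ∧
    ∀ z ∈ (P : Subgroup G), orderOf z = 2 → (∀ x ∈ (P : Subgroup G), x * z = z * x) → z = t := by
  haveI := Fact.mk Nat.prime_two
  set H := Subgroup.centralizer ({t} : Set G) with hH
  have htH : t ∈ H := Subgroup.mem_centralizer_singleton_iff.mpr rfl
  have ht2 : orderOf (⟨t, htH⟩ : H) = 2 := by rw [Subgroup.orderOf_mk, K.orderOf_neg]
  obtain ⟨S, hS⟩ := (IsPGroup.of_card (n := 1)
    (show Nat.card (Subgroup.zpowers (⟨t, htH⟩ : H)) = 2 ^ 1 by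
      rw [Nat.card_zpowers, ht2, pow_one])).exists_le_sylow
  have hScard : Nat.card (S : Subgroup H) = 16 := by
    obtain ⟨n, hn⟩ := S.isPGroup'.exists_card_eq
    have h16 : 2 ^ 4 ∣ Nat.card (S : Subgroup H) :=
      S.pow_dvd_card_of_pow_dvd_card (by rw [card_cent K]; norm_num)
    have h48 := Subgroup.card_subgroup_dvd_card (S : Subgroup H)
    rw [card_cent K, hn] at h48
    rw [hn] at h16 ⊢
    have h4 : 4 ≤ n := (Nat.pow_dvd_pow_iff_le_right (by norm_num)).mp h16
    have h6 : n < 6 := by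
      by_contra hc
      have h64 : (2 : ℕ) ^ 6 ∣ 48 := (pow_dvd_pow 2 (by omega)).trans h48
      norm_num at h64
    all_goals (interval_cases n <;> norm_num at *)
  obtain ⟨P, hP⟩ := (S.isPGroup'.map H.subtype).exists_le_sylow
  have htP : t ∈ (P : Subgroup G) := hP ⟨⟨t, htH⟩, hS (Subgroup.mem_zpowers _), rfl⟩
  have hcen : ∀ z ∈ (P : Subgroup G), orderOf z = 2 →
      (∀ x ∈ (P : Subgroup G), x * z = z * x) → z = t := by
    intro z hz hz2 hzc
    by_contra hne
    obtain ⟨i, rfl⟩ := exists_el K (hzc t htP).symm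
    have h4 := noncentral_cent i (invol_of_orderOf K hz2) (fun h => hne (by rw [h, el_neg]))
    have hle : Nat.card (S : Subgroup H) ≤
        Nat.card ↥(Finset.univ.filter fun k => mulI k i = mulI i k) := by
      refine Nat.card_le_card_of_injective (fun x => ⟨K.E.symm x.1, Finset.mem_filter.mpr
        ⟨Finset.mem_univ _, (el_comm_iff K _ _).mp ?_⟩⟩) fun x y h => ?_
      · rw [el, Equiv.apply_symm_apply]
        exact hzc _ (hP ⟨x.1, x.2, rfl⟩)
      · exact Subtype.ext (K.E.symm.injective (congrArg Subtype.val h))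
    rw [hScard, Nat.card_eq_fintype_card, Fintype.card_coe, h4] at hle
    norm_num at hle
  haveI : Nontrivial P := ⟨⟨⟨t, htP⟩, 1, fun h => by
    have h1 := congrArg Subtype.val h
    have h2 := K.orderOf_neg
    simp only [Subgroup.coe_one] at h1
    rw [h1, orderOf_one] at h2
    norm_num at h2⟩⟩
  haveI := P.isPGroup'.center_nontrivial
  obtain ⟨z, hz⟩ := exists_prime_orderOf_dvd_card' 2
    (show 2 ∣ Nat.card (Subgroup.center P) from
      ((P.isPGroup'.to_subgroup _).nontrivial_iff_card.mp inferInstance).elim fun n hn =>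
        hn.2 ▸ dvd_pow_self 2 hn.1.ne')
  have hzc : ∀ w ∈ (P : Subgroup G), w * ((z : P) : G) = ((z : P) : G) * w := fun w hw =>
    congrArg Subtype.val (Subgroup.mem_center_iff.mp z.2 ⟨w, hw⟩)
  have hzt : ((z : P) : G) = t :=
    hcen _ (z : P).2 (by rw [Subgroup.orderOf_coe, Subgroup.orderOf_coe, hz]) hzc
  have hPH : (P : Subgroup G) ≤ H := fun w hw =>
    Subgroup.mem_centralizer_singleton_iff.mpr (by rw [← hzt]; exact hzc w hw)
  refine ⟨P, hPH, ?_, htP, hcen⟩
  obtain ⟨n, hn⟩ := P.isPGroup'.exists_card_eq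
  have h1 : 16 ∣ Nat.card (P : Subgroup G) := by
    rw [← hScard, ← Subgroup.card_map_of_injective (K := (S : Subgroup H)) H.subtype_injective]
    exact Subgroup.card_dvd_of_le hP
  have h2 := Subgroup.card_dvd_of_le hPH
  rw [card_cent K, hn] at h2
  rw [hn] at h1 ⊢
  have h6 : n < 6 := by
    by_contra hc
    have h64 : (2 : ℕ) ^ 6 ∣ 48 := (pow_dvd_pow 2 (by omega)).trans h2
    norm_num at h64
  all_goals (interval_cases n <;> norm_num at *)

theorem odd_index : Odd (Subgroup.centralizer ({t} : Set G)).index := by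
  haveI := Fact.mk Nat.prime_two
  obtain ⟨P, hP, -, -, -⟩ := exists_sylow K
  refine Nat.not_even_iff_odd.mp fun h => P.not_dvd_index ?_
  exact (even_iff_two_dvd.mp h).trans ((Subgroup.index_dvd_of_le hP))

/-- All involutions are conjugate. -/
theorem isConj_of_orderOf (hO : pResidual 2 G = ⊤) {u : G} (hu : orderOf u = 2) : IsConj t u := by
  haveI := Fact.mk Nat.prime_two
  set H := Subgroup.centralizer ({t} : Set G) with hH
  have hall : ∀ f : G →* ℤˣ, f = 1 := by
    intro f
    have hle : pResidual 2 G ≤ f.ker := by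
      refine (Subgroup.closure_le _).mpr fun g hg => ?_
      have h2 : f g ^ 2 = 1 := Int.units_sq _
      have h1 : f g ^ orderOf g = 1 := by rw [← map_pow, pow_orderOf_eq_one, map_one]
      exact orderOf_eq_one_iff.mp (Nat.eq_one_of_dvd_coprimes hg (orderOf_dvd_of_pow_eq_one h1)
        (orderOf_dvd_of_pow_eq_one h2))
    rw [hO] at hle
    exact MonoidHom.ext fun g => hle (Subgroup.mem_top g)
  let φ : H →* ℤˣ := MonoidHom.mk' (fun x => dI (K.E.symm x)) fun x y => by
    rw [K.symm_mul, dI_mul]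
  obtain ⟨hs1, hs2, hs3, -⟩ := s0_facts
  have hsH : el K s0 ∈ H := el_mem K s0
  have hφs : φ ⟨el K s0, hsH⟩ ≠ 1 := by
    show dI (K.E.symm (K.E s0)) ≠ 1
    rw [Equiv.symm_apply_apply]
    exact hs3
  obtain ⟨a, ha, ha1⟩ := CfsgLib.Transfer.exists_conj_ker_sylow φ
    (fun a b ha hb ha1 hb1 => by
      rcases Int.units_eq_one_or a with rfl | rfl <;> rcases Int.units_eq_one_or b with rfl | rfl <;>
        simp_all)
    hall (by rw [← pow_two, ← orderOf_el K hs1, pow_orderOf_eq_one]) hsH hφs (odd_index K)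
  obtain ⟨j, hj⟩ := exists_el K (Subgroup.mem_centralizer_singleton_iff.mp ha)
  have hjo : orderOf (el K j) = 2 := by
    rw [hj, show a⁻¹ * el K s0 * a = MulAut.conj a⁻¹ (el K s0) by simp, MulEquiv.orderOf_eq,
      orderOf_el K hs1]
  have hjn : j = negI := by
    refine det_invol j (invol_of_orderOf K hjo) ?_
    have : (⟨a⁻¹ * el K s0 * a, ha⟩ : H) = K.E j := Subtype.ext hj.symm
    change dI (K.E.symm ⟨a⁻¹ * el K s0 * a, ha⟩) = 1 at ha1
    rwa [this, Equiv.symm_apply_apply] at ha1
  rw [hjn, el_neg] at hj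
  have hst : IsConj t (el K s0) := isConj_iff.mpr ⟨a, by
    calc a * t * a⁻¹ = a * (a⁻¹ * el K s0 * a) * a⁻¹ := congrArg (fun x => a * x * a⁻¹) hj
      _ = el K s0 := by group⟩
  have hin : ∀ i, invol i → IsConj t (el K i) := by
    intro i hi
    by_cases hin : i = negI
    · rw [hin, el_neg]
    obtain ⟨k, hk⟩ := one_class s0 i hs1 hi hs2 hin
    exact hst.trans (isConj_iff.mpr ⟨el K k, by
      rw [← el_mul, hk, el_mul, mul_inv_cancel_right]⟩)
  obtain ⟨P, hPH, -, -, -⟩ := exists_sylow K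
  obtain ⟨Q, hQ⟩ := (IsPGroup.of_card (p := 2) (n := 1)
    (show Nat.card (Subgroup.zpowers u) = 2 ^ 1 by rw [Nat.card_zpowers, hu, pow_one])).exists_le_sylow
  obtain ⟨g, rfl⟩ := MulAction.exists_smul_eq G P Q
  have hu' := hQ (Subgroup.mem_zpowers u)
  rw [Sylow.coe_subgroup_smul] at hu'
  obtain ⟨w, hw, rfl⟩ := hu'
  obtain ⟨i, rfl⟩ := exists_el K (Subgroup.mem_centralizer_singleton_iff.mp (hPH hw))
  have hi : invol i := invol_of_orderOf K (by
    have h := hu
    rw [MulDistribMulAction.toMonoidEnd_apply] at h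
    simp only [MulDistribMulAction.toMonoidHom_apply, MulAut.smul_def, MulAut.conj_apply] at h
    rwa [← MulAut.conj_apply, MulEquiv.orderOf_eq] at h)
  refine (hin i hi).trans (isConj_iff.mpr ⟨g, ?_⟩)
  simp [MulAut.smul_def]

/-- The centralizer of every involution has order forty-eight. -/
theorem card_cent_invol (hO : pResidual 2 G = ⊤) {u : G} (hu : orderOf u = 2) :
    Nat.card (Subgroup.centralizer ({u} : Set G)) = 48 := by
  obtain ⟨g, rfl⟩ := isConj_iff.mp (isConj_of_orderOf K hO hu)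
  rw [← card_cent K]
  refine Nat.card_congr ((MulAut.conj g⁻¹).toEquiv.subtypeEquiv fun x => ?_)
  simp only [Subgroup.mem_centralizer_singleton_iff, MulEquiv.toEquiv_eq_coe, EquivLike.coe_coe,
    MulAut.conj_apply, inv_inv]
  constructor <;> intro h
  · have := congrArg (fun y => g⁻¹ * y * g) h
    simpa [mul_assoc] using this
  · have := congrArg (fun y => g * y * g⁻¹) h
    simpa [mul_assoc] using this

/-- A normal subgroup with more than one element contains the centralizer. -/
theorem cent_le_of_normal (hO : pResidual 2 G = ⊤) {N : Subgroup G} (hN : N.Normal) (hne : N ≠ ⊥) :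
    Subgroup.centralizer ({t} : Set G) ≤ N := by
  haveI := Fact.mk Nat.prime_two
  have conj_mem : ∀ u v : G, IsConj u v → u ∈ N → v ∈ N := fun u v h hu => by
    obtain ⟨g, rfl⟩ := isConj_iff.mp h
    exact hN.conj_mem u hu g
  by_cases h2 : 2 ∣ Nat.card N
  · obtain ⟨n, hn⟩ := exists_prime_orderOf_dvd_card' 2 h2
    have hn' : orderOf (n : G) = 2 := by rw [Subgroup.orderOf_coe, hn]
    have htN : t ∈ N := conj_mem _ _ (isConj_of_orderOf K hO hn').symm n.2
    have hall : ∀ i, mulI i i = 0 → el K i ∈ N := fun i hi => by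
      by_cases h0 : i = 0
      · rw [h0, el_zero]; exact one_mem N
      · exact conj_mem _ _ (isConj_of_orderOf K hO (orderOf_el K ⟨hi, h0⟩)) htN
    intro g hg
    obtain ⟨i, rfl⟩ := exists_el K (Subgroup.mem_centralizer_singleton_iff.mp hg)
    obtain ⟨a, ha, b, hb, c, hc, rfl⟩ := three_invol i
    rw [el_mul, el_mul]
    exact mul_mem (hall a ha) (mul_mem (hall b hb) (hall c hc))
  exfalso
  have hodd : ∀ x ∈ N, x * x = 1 → x = 1 := fun x hx hxx => by
    by_contra hx1
    have : orderOf (⟨x, hx⟩ : N) = 2 := by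
      rw [Subgroup.orderOf_mk]; exact orderOf_eq_prime (by rw [pow_two, hxx]) hx1
    exact h2 (this ▸ orderOf_dvd_natCard _)
  set H := Subgroup.centralizer ({t} : Set G) with hH
  have hfix : ∀ y ∈ N, y * t = t * y → y = 1 := by
    intro y hy hyt
    by_contra hy1
    have hdvd : Nat.card ↥(N ⊓ H) ∣ 3 := by
      have h48 : Nat.card ↥(N ⊓ H) ∣ 48 := card_cent K ▸ Subgroup.card_dvd_of_le inf_le_right
      have hc : Nat.Coprime (Nat.card ↥(N ⊓ H)) (2 ^ 4) := (Nat.Coprime.symm
        ((Nat.prime_two.coprime_iff_not_dvd).mpr fun h =>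
          h2 (h.trans (Subgroup.card_dvd_of_le inf_le_left)))).pow_right 4
      exact hc.dvd_of_dvd_mul_left (by norm_num; exact h48)
    have hyH : y ∈ H := Subgroup.mem_centralizer_singleton_iff.mpr hyt
    have hy3 : orderOf y = 3 := by
      have h1 : orderOf y ∣ 3 := (Subgroup.orderOf_dvd_natCard _ (Subgroup.mem_inf.mpr ⟨hy, hyH⟩)).trans hdvd
      exact ((Nat.dvd_prime Nat.prime_three).mp h1).resolve_left (by rwa [orderOf_eq_one_iff])
    have heq : Subgroup.zpowers y = N ⊓ H := by
      refine Subgroup.eq_of_le_of_card_ge (by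
        rw [Subgroup.zpowers_le]; exact ⟨hy, hyH⟩) ?_
      rw [Nat.card_zpowers, hy3]
      exact Nat.le_of_dvd (by norm_num) hdvd
    obtain ⟨i, rfl⟩ := exists_el K hyt
    have hi3 : mulI i (mulI i i) = 0 := el_injective K (by
      rw [el_mul, el_mul, el_zero, ← pow_orderOf_eq_one (el K i), hy3, pow_succ', pow_two])
    obtain ⟨j, hj1, hj2⟩ := no_normal_three i hi3 (fun h => hy1 (by rw [h, el_zero]))
    have hmem : el K j * el K i * (el K j)⁻¹ ∈ Subgroup.zpowers (el K i) := by
      rw [heq]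
      exact ⟨hN.conj_mem _ hy _, H.mul_mem (H.mul_mem (el_mem K j) hyH) (H.inv_mem (el_mem K j))⟩
    classical
    obtain ⟨k, hk, hkeq⟩ := Finset.mem_image.mp
      ((isOfFinOrder_of_finite (el K i)).mem_zpowers_iff_mem_range_orderOf.mp hmem)
    rw [Finset.mem_range, hy3] at hk
    interval_cases k
    · rw [pow_zero] at hkeq
      exact hy1 (conj_eq_one_iff.mp hkeq.symm)
    · rw [pow_one, eq_mul_inv_iff_mul_eq] at hkeq
      exact hj1 (el_injective K (by rw [el_mul, el_mul, hkeq]))
    · rw [pow_two, eq_mul_inv_iff_mul_eq] at hkeq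
      exact hj2 (el_injective K (by rw [el_mul, el_mul, el_mul, hkeq]))
  have hinv : ∀ u : G, orderOf u = 2 → ∀ y ∈ N, u * y * u⁻¹ = y⁻¹ := by
    intro u hu
    obtain ⟨g, rfl⟩ := isConj_iff.mp (isConj_of_orderOf K hO hu)
    let φ : MulAut N := MulAut.conjNormal t
    have hff : MonoidHom.FixedPointFree φ := fun y hy => by
      have h1 : t * (y : G) * t⁻¹ = y := by
        rw [← MulAut.conjNormal_apply]; exact congrArg Subtype.val hy
      exact Subtype.ext (hfix y y.2 (mul_inv_eq_iff_eq_mul.mp h1).symm)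
    have ht : t * t = 1 := by rw [← pow_two, ← K.orderOf_neg, pow_orderOf_eq_one]
    have hinvol : Function.Involutive φ := fun y => by
      rw [← MulAut.mul_apply, ← map_mul, ht, map_one, MulAut.one_apply]
    intro y hy
    have h := congrFun (hff.coe_eq_inv_of_involutive hinvol)
      ⟨g⁻¹ * y * g, by simpa using hN.conj_mem y hy g⁻¹⟩
    have h' := congrArg Subtype.val h
    simp only [φ, MulAut.conjNormal_apply, Subgroup.coe_inv] at h'
    calc g * t * g⁻¹ * y * (g * t * g⁻¹)⁻¹ = g * (t * (g⁻¹ * y * g) * t⁻¹) * g⁻¹ := by group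
      _ = y⁻¹ := by rw [h']; group
  obtain ⟨hs1, hs2, -, -⟩ := s0_facts
  have hts : invol (mulI negI s0) := by decide +kernel
  refine hne ((Subgroup.eq_bot_iff_forall _).mpr fun y hy => ?_)
  have a1 := hinv _ (orderOf_el K hs1) y hy
  have a2 := hinv t K.orderOf_neg y⁻¹ (inv_mem hy)
  have a3 := hinv _ (orderOf_el K hts) y hy
  rw [el_mul, el_neg, show t * el K s0 * y * (t * el K s0)⁻¹ = t * (el K s0 * y * (el K s0)⁻¹) * t⁻¹ by
    group, a1, a2, inv_inv] at a3
  exact hodd y hy (by nth_rewrite 2 [a3]; rw [mul_inv_cancel])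

/-- **Simplicity.** -/
theorem isSimpleGroup (hO : pResidual 2 G = ⊤) : IsSimpleGroup G ∧ ¬ IsMulCommutative G := by
  haveI := Fact.mk Nat.prime_two
  have hnc : ¬ IsMulCommutative G := fun h => c0_facts.2.2.1 ((el_comm_iff K s0 c0).mp (h.is_comm.comm _ _))
  refine ⟨?_, hnc⟩
  haveI : Nontrivial G := ⟨⟨t, 1, fun h => by
    have h2 := K.orderOf_neg; rw [h, orderOf_one] at h2; norm_num at h2⟩⟩
  refine ⟨fun N hN => or_iff_not_imp_left.mpr fun hne => ?_⟩
  have hle := cent_le_of_normal K hO hN hne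
  obtain ⟨P, hPH, -, htP, hcen⟩ := exists_sylow K
  haveI := hN
  have h := P.normalizer_sup_eq_top' (hPH.trans hle)
  rw [eq_top_iff, ← h]
  refine sup_le (fun g hg => hle (Subgroup.mem_centralizer_singleton_iff.mpr ?_)) le_rfl
  have hg' := Subgroup.mem_normalizer_iff.mp hg
  have h1 : g * t * g⁻¹ = t := by
    refine hcen _ ((hg' t).mp htP) (by rw [← MulAut.conj_apply, MulEquiv.orderOf_eq, K.orderOf_neg])
      fun x hx => ?_
    have hx' : g⁻¹ * x * g ∈ (P : Subgroup G) := (hg' _).mpr (by simpa [mul_assoc] using hx)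
    have hc := Subgroup.mem_centralizer_singleton_iff.mp (hPH hx')
    calc x * (g * t * g⁻¹) = g * (g⁻¹ * x * g * t) * g⁻¹ := by group
      _ = g * (t * (g⁻¹ * x * g)) * g⁻¹ := by rw [hc]
      _ = _ := by group
  exact mul_inv_eq_iff_eq_mul.mp h1

end CfsgLib.GLTwoThreeRecog
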